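import Cfsg.Agent.H23.OZ.Even

/-!
# One vanishing class: sections of `r`-elements (helper23, S4842)

`|G|_r = r ^ n`, `t ≡ 1 (mod r ^ n)`, `|G| / r ^ n ∣ t`: `g ^ t` is the `r`-part of `g`.  Let `P` be a set of
`r`-elements stable under conjugation and the powers prime to `|G|`.
* `gen_sec` : `r ^ n` times the indicator function of `{g | P (g ^ t)}` is a generalized character;
* `ex_sec`  : if `χ` does not vanish on this set and not all values are of absolute value one, then the excess is at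
  least `|G| / r ^ n`;
* `ex_sec_prime` : the section of the powers of an element `z` of order `r`, if `r ∤ d² - 1`.
-/

set_option autoImplicit false

namespace Cfsg.Agent.H23.OZ

open Cfsg Cfsg.Agent.Characters Cfsg.Agent.H686.CharKit Finset
open Cfsg.Agent.H732.VZ Cfsg.Agent.H695.OneZero Cfsg.Agent.H733.OZ
open Cfsg.Agent.H30.OZ (Ex)
open scoped ComplexConjugate

universe u

/-- `r`-elements in the same coset of a normal `r`-complement are conjugate. -/
theorem conj_of_coset {E : Type*} [Group E] [Finite E] {r j : ℕ} (hr : r.Prime) (K : Subgroup E) [K.Normal]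
    (hj : K.index = r ^ j) (hK : (Nat.card K).Coprime r) {x y : E} {a b : ℕ} (hx : x ^ r ^ a = 1)
    (hy : y ^ r ^ b = 1) (hxy : x⁻¹ * y ∈ K) : IsConj x y := by
  have : Fact r.Prime := ⟨hr⟩
  have hpz : ∀ (z : E) (m : ℕ), z ^ r ^ m = 1 → IsPGroup r (Subgroup.zpowers z) := by
    rintro z m hz ⟨g, hg⟩
    obtain ⟨i, rfl⟩ := Subgroup.mem_zpowers_iff.1 hg
    refine ⟨m, Subtype.ext ?_⟩
    show (z ^ i) ^ (r ^ m) = 1
    rw [← zpow_natCast, ← zpow_mul, mul_comm, zpow_mul, zpow_natCast, hz, one_zpow]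
  obtain ⟨P, hP⟩ := (hpz x a hx).exists_le_sylow
  obtain ⟨Q, hQ⟩ := (hpz y b hy).exists_le_sylow
  obtain ⟨g, hg⟩ := MulAction.exists_smul_eq E Q P
  have hxP : x ∈ (P : Subgroup E) := hP (Subgroup.mem_zpowers x)
  have hyQ : y ∈ (Q : Subgroup E) := hQ (Subgroup.mem_zpowers y)
  have hy' : g * y * g⁻¹ ∈ (P : Subgroup E) := by
    rw [← hg, Sylow.coe_subgroup_smul]
    exact ⟨y, hyQ, by simp⟩
  -- the complement
  have hPK : Subgroup.IsComplement' K (P : Subgroup E) := by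
    refine Subgroup.isComplement'_of_coprime ?_ ?_
    · have h1 : Nat.card K * r ^ j = Nat.card E := by rw [← hj]; exact K.card_mul_index
      obtain ⟨m, hm⟩ := IsPGroup.iff_card.1 P.2
      have h2 : r ^ j ∣ Nat.card (P : Subgroup E) := P.pow_dvd_card_of_pow_dvd_card ⟨Nat.card K, by rw [← h1, mul_comm]⟩
      have h3 : Nat.card (P : Subgroup E) ∣ r ^ j := by
        have h4 : Nat.card (P : Subgroup E) ∣ Nat.card K * r ^ j := by rw [h1]; exact Subgroup.card_subgroup_dvd_card _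
        refine Nat.Coprime.dvd_of_dvd_mul_left ?_ h4
        rw [hm]
        exact (hK.pow_right m).symm
      rw [Nat.dvd_antisymm h3 h2, h1]
    · obtain ⟨m, hm⟩ := IsPGroup.iff_card.1 P.2
      rw [hm]
      exact hK.pow_right m
  have hsup : K ⊔ (P : Subgroup E) = ⊤ := hPK.sup_eq_top
  have hinf : K ⊓ (P : Subgroup E) = ⊥ := hPK.disjoint.eq_bot
  obtain ⟨k, hk, p, hp, hkp⟩ := (Subgroup.mem_sup_of_normal_left).1 (hsup ▸ Subgroup.mem_top g : g ∈ K ⊔ (P : Subgroup E))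
  -- `y' = p⁻¹ (g y g⁻¹) p` is in `P` and in `x K`
  have h1 : p⁻¹ * (g * y * g⁻¹) * p ∈ (P : Subgroup E) :=
    (P : Subgroup E).mul_mem ((P : Subgroup E).mul_mem ((P : Subgroup E).inv_mem hp) hy') hp
  have h2 : x⁻¹ * (p⁻¹ * (g * y * g⁻¹) * p) ∈ K := by
    have hN : K.Normal := inferInstance
    have h3 : p⁻¹ * k * p ∈ K := by
      have := hN.conj_mem k hk p⁻¹
      rwa [inv_inv] at this
    have h4 : y⁻¹ * (p⁻¹ * k * p) * y ∈ K := by
      have := hN.conj_mem _ h3 y⁻¹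
      rwa [inv_inv] at this
    have h5 : p⁻¹ * (g * y * g⁻¹) * p = y * ((y⁻¹ * (p⁻¹ * k * p) * y) * (p⁻¹ * k * p)⁻¹) := by
      rw [← hkp]
      group
    rw [h5, ← mul_assoc]
    exact mul_mem hxy (mul_mem h4 (inv_mem h3))
  have h3 : x⁻¹ * (p⁻¹ * (g * y * g⁻¹) * p) = 1 := by
    have : x⁻¹ * (p⁻¹ * (g * y * g⁻¹) * p) ∈ K ⊓ (P : Subgroup E) := ⟨h2, (P : Subgroup E).mul_mem ((P : Subgroup E).inv_mem hxP) h1⟩
    rwa [hinf, Subgroup.mem_bot] at this
  refine (isConj_iff.2 ⟨p⁻¹ * g, ?_⟩ : IsConj y x).symm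
  rw [inv_mul_eq_one] at h3
  rw [h3]
  group

theorem isGen_comp {A B : Type*} [Group A] [Group B] (f : A →* B) {χ : B → ℂ} (h : IsGeneralizedCharacter B χ) :
    IsGeneralizedCharacter A (fun a => χ (f a)) := by
  obtain ⟨α, β, hα, hβ, rfl⟩ := h
  exact ⟨_, _, Core.isCharacter_comp f hα, Core.isCharacter_comp f hβ, rfl⟩

/-- The order of an `r`-group times a Galois-stable indicator function. -/
theorem gen_ind {Q : Type*} [Group Q] [Finite Q] (N : ℕ) (hN : N ≠ 0) (P : Q → Prop) [DecidablePred P]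
    (hc : ∀ a c : Q, P a → P (c * a * c⁻¹)) (hg : ∀ (a : Q) (k : ℕ), k.Coprime N → P a → P (a ^ k)) :
    IsGeneralizedCharacter Q (fun a => if P a then (Nat.card Q : ℂ) else 0) := by
  classical
  have := Fintype.ofFinite Q
  refine Brauer.isGeneralizedCharacter_of_int (fun g h => ?_) fun θ hθ => ?_
  · have h1 : P (h * g * h⁻¹) ↔ P g := by
      refine ⟨fun h1 => ?_, hc g h⟩
      have h2 := hc _ h⁻¹ h1
      have h3 : h⁻¹ * (h * g * h⁻¹) * h⁻¹⁻¹ = g := by group
      rwa [h3] at h2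
    simp only [h1]
  · have hθc := Core.isIrr_isCharacter hθ
    have h1 : classInner (fun a : Q => if P a then (Nat.card Q : ℂ) else 0) θ
        = ∑ a ∈ univ.filter (fun a : Q => P a), θ (a⁻¹) := by
      unfold classInner
      rw [sum_filter, mul_sum]
      refine sum_congr rfl fun a _ => ?_
      have hQ : (Nat.card Q : ℂ) ≠ 0 := by exact_mod_cast Nat.card_pos.ne'
      rw [Core.isCharacter_apply_inv hθc]
      by_cases h : P a
      · simp only [if_pos h]
        rw [← mul_assoc, inv_mul_cancel₀ hQ, one_mul]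
      · simp only [if_neg h]
        rw [zero_mul, mul_zero]
    rw [h1]
    obtain ⟨k, hk⟩ := H30.OZ.exists_int (z := ∑ a ∈ univ.filter (fun a : Q => P a), θ (a⁻¹))
      (IsIntegral.sum _ fun a _ => GaloisBasic.isIntegral_apply hθc _) (by
      intro σ
      obtain ⟨m, hm, hσ⟩ := GaloisBasic.exists_pow_of_ringEquiv (G := Q) σ
      obtain ⟨k, hk, hkm⟩ := exists_coprime_lift (a := m) (M := Nat.card Q) (N := N * Nat.card Q) Nat.card_pos.ne'
        (Nat.mul_ne_zero hN Nat.card_pos.ne') hm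
      have hkN : k.Coprime N := hk.coprime_dvd_right (Dvd.intro _ rfl)
      have hkQ : k.Coprime (Nat.card Q) := hk.coprime_dvd_right (Dvd.intro_left _ rfl)
      rw [map_sum]
      have h2 : ∀ a ∈ univ.filter (fun a : Q => P a), σ (θ a⁻¹) = θ ((a ^ k)⁻¹) := fun a _ => by
        rw [hσ θ hθc, ← inv_pow, ← pow_eq_pow_of_modEq hkm (pow_card_eq_one' (x := a⁻¹))]
      rw [sum_congr rfl h2]
      have hinj : Function.Injective fun g : Q => g ^ k := (powCoprime hkQ.symm).injective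
      have h3 : (univ.filter fun a : Q => P a).image (fun g : Q => g ^ k) = univ.filter fun a : Q => P a := by
        refine eq_of_subset_of_card_le (fun y hy => ?_) ?_
        · obtain ⟨g, hg', rfl⟩ := mem_image.1 hy
          rw [mem_filter] at hg' ⊢
          exact ⟨mem_univ _, hg g k hkN hg'.2⟩
        · rw [card_image_of_injective _ hinj]
      conv_rhs => rw [← h3]
      rw [sum_image fun a _ b _ hab => hinj hab])
    exact ⟨k, hk⟩

variable {G : Type u} [Group G]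

/-- **The indicator function of a section.** -/
theorem gen_sec [Finite G] {r n t : ℕ} (hr : r.Prime) (h1 : r ^ n ∣ Nat.card G)
    (h2 : ¬ r ^ (n + 1) ∣ Nat.card G) (ht1 : t ≡ 1 [MOD r ^ n]) (ht0 : Nat.card G ∣ t * r ^ n) (P : G → Prop)
    [DecidablePred P] (hc : ∀ a c : G, P a → P (c * a * c⁻¹))
    (hg : ∀ (a : G) (k : ℕ), k.Coprime (Nat.card G) → P a → P (a ^ k)) :
    IsGeneralizedCharacter G (fun g => if P (g ^ t) then ((r ^ n : ℕ) : ℂ) else 0) := by
  classical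
  have hciff : ∀ a c : G, P (c * a * c⁻¹) ↔ P a := fun a c => by
    refine ⟨fun h => ?_, hc a c⟩
    have h2 := hc _ c⁻¹ h
    have h3 : c⁻¹ * (c * a * c⁻¹) * c⁻¹⁻¹ = a := by group
    rwa [h3] at h2
  have hconj : ∀ a b : G, IsConj a b → (P a ↔ P b) := fun a b h => by
    obtain ⟨c, rfl⟩ := isConj_iff.1 h
    exact (hciff a c).symm
  refine Brauer.brauer_characterization _ (fun g h => ?_) fun E q hq hE => ?_
  · have h3 : P ((h * g * h⁻¹) ^ t) ↔ P (g ^ t) := by
      rw [conj_pow]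
      exact hciff _ _
    simp only [h3]
  · obtain ⟨K, hKn, ⟨j, hj⟩, hK⟩ := S0961.exists_complement hr hq hE
    have hjn : j ≤ n := by
      by_contra hlt
      apply h2
      refine (pow_dvd_pow r (by omega : n + 1 ≤ j)).trans ?_
      rw [← hj]
      exact K.index_dvd_card.trans E.card_subgroup_dvd_card
    -- the function on the quotient
    have hQc : Nat.card (E ⧸ K) = r ^ j := hj
    have htE : ∀ e : E, (e ^ t) ^ r ^ n = 1 := fun e => by
      rw [← pow_mul]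
      obtain ⟨c, hc⟩ := (E.card_subgroup_dvd_card.trans ht0)
      rw [hc, pow_mul, pow_card_eq_one', one_pow]
    have htQ : ∀ e : E, ((e ^ t : E) : E ⧸ K) = (e : E ⧸ K) := fun e => by
      rw [QuotientGroup.mk_pow]
      have h3 : (e : E ⧸ K) ^ r ^ n = 1 := by
        obtain ⟨i, rfl⟩ := Nat.exists_eq_add_of_le hjn
        rw [pow_add, pow_mul, ← hQc, pow_card_eq_one', one_pow]
      rw [pow_eq_pow_of_modEq ht1 h3, pow_one]
    have hcos : ∀ e e' : E, (e : E ⧸ K) = e' → (P ((e : G) ^ t) ↔ P ((e' : G) ^ t)) := by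
      intro e e' hee
      have h3 : (e ^ t)⁻¹ * e' ^ t ∈ K := by
        rw [← QuotientGroup.eq, htQ, htQ, hee]
      obtain ⟨c, hc'⟩ := isConj_iff.1 (conj_of_coset hr K hj hK (htE e) (htE e') h3)
      refine hconj _ _ (isConj_iff.2 ⟨(c : G), ?_⟩)
      have := congrArg (Subtype.val) hc'
      simpa using this
    let PQ : (E ⧸ K) → Prop := fun q => ∃ e : E, (e : E ⧸ K) = q ∧ P ((e : G) ^ t)
    have hPQ : ∀ e : E, PQ (e : E ⧸ K) ↔ P ((e : G) ^ t) := fun e => by
      refine ⟨?_, fun h => ⟨e, rfl, h⟩⟩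
      rintro ⟨e', he', h⟩
      exact (hcos e' e he').1 h
    have hgen := gen_ind (Q := E ⧸ K) (Nat.card G) Nat.card_pos.ne' PQ (by
      rintro a c ⟨e, rfl, h⟩
      obtain ⟨c, rfl⟩ := QuotientGroup.mk_surjective c
      refine ⟨c * e * c⁻¹, rfl, ?_⟩
      have h3 : ((c * e * c⁻¹ : E) : G) ^ t = (c : G) * (e : G) ^ t * (c : G)⁻¹ := by
        push_cast
        rw [conj_pow]
      rw [h3]
      exact hc _ _ h) (by
      rintro a k hk ⟨e, rfl, h⟩
      refine ⟨e ^ k, rfl, ?_⟩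
      have h3 : ((e ^ k : E) : G) ^ t = ((e : G) ^ t) ^ k := by
        push_cast
        rw [← pow_mul, ← pow_mul, mul_comm]
      rw [h3]
      exact hg _ k hk h)
    have h3 := isGen_comp (QuotientGroup.mk' K) hgen
    have h4 : IsGeneralizedCharacter E (fun _ : E => ((r ^ (n - j) : ℕ) : ℂ)) := by
      have h5 := Core.isCharacter_nsmul (r ^ (n - j)) (Core.isCharacter_one (G := E))
      refine Brauer.isGeneralizedCharacter_of_isCharacter ?_
      convert h5 using 1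
      ext e
      simp
    have h5 := Brauer.isGeneralizedCharacter_mul h4 h3
    convert h5 using 1
    ext e
    simp only [Pi.mul_apply]
    have h6 : PQ (QuotientGroup.mk' K e) ↔ P ((e : G) ^ t) := hPQ e
    by_cases h : P ((e : G) ^ t)
    · rw [if_pos h, if_pos (h6.2 h), hQc, ← Nat.cast_mul, ← pow_add, Nat.sub_add_cancel hjn]
    · rw [if_neg h, if_neg (fun h' => h (h6.1 h')), mul_zero]

variable [Fintype G]

/-- the section -/
noncomputable def sec (t : ℕ) (P : G → Prop) [DecidablePred P] : Finset G := univ.filter fun g => P (g ^ t)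

theorem mem_sec {t : ℕ} {P : G → Prop} [DecidablePred P] {g : G} : g ∈ sec t P ↔ P (g ^ t) := by simp [sec]

theorem sum_sec {r n t : ℕ} (hr : r.Prime) (h1 : r ^ n ∣ Nat.card G)
    (h2 : ¬ r ^ (n + 1) ∣ Nat.card G) (ht1 : t ≡ 1 [MOD r ^ n]) (ht0 : Nat.card G ∣ t * r ^ n) (P : G → Prop)
    [DecidablePred P] (hc : ∀ a c : G, P a → P (c * a * c⁻¹))
    (hg : ∀ (a : G) (k : ℕ), k.Coprime (Nat.card G) → P a → P (a ^ k)) (χ : IrrCharacter G) :
    ∃ k : ℤ, (r ^ n : ℝ) * ∑ g ∈ sec t P, Complex.normSq ((χ : G → ℂ) g) = Nat.card G * k := by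
  classical
  have h3 := Brauer.isGeneralizedCharacter_mul (gen_sec hr h1 h2 ht1 ht0 P hc hg)
    (Brauer.isGeneralizedCharacter_of_isCharacter (Core.isIrr_isCharacter χ.2))
  obtain ⟨a, b, ha, hb, hab⟩ := Core.isGeneralizedCharacter_def.1 h3
  obtain ⟨m1, hm1⟩ := Core.classInner_isNat ha (Core.isIrr_isCharacter χ.2)
  obtain ⟨m2, hm2⟩ := Core.classInner_isNat hb (Core.isIrr_isCharacter χ.2)
  have h4 : classInner ((fun g : G => if P (g ^ t) then ((r ^ n : ℕ) : ℂ) else 0) * (χ : G → ℂ)) (χ : G → ℂ)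
      = (m1 : ℂ) - m2 := by
    rw [hab, Core.classInner_sub_left, hm1, hm2]
  unfold classInner at h4
  have hG : (Nat.card G : ℂ) ≠ 0 := by exact_mod_cast Nat.card_pos.ne'
  have h5 : ∑ g : G, ((fun g : G => if P (g ^ t) then ((r ^ n : ℕ) : ℂ) else 0) * (χ : G → ℂ)) g
      * (starRingEnd ℂ) ((χ : G → ℂ) g) = (Nat.card G : ℂ) * ((m1 : ℂ) - m2) := by
    rw [← h4]
    field_simp
  refine ⟨(m1 : ℤ) - m2, ?_⟩
  have h6 : (((r ^ n : ℝ) * ∑ g ∈ sec t P, Complex.normSq ((χ : G → ℂ) g) : ℝ) : ℂ)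
      = (((Nat.card G * (((m1 : ℤ) - m2 : ℤ) : ℝ)) : ℝ) : ℂ) := by
    push_cast
    rw [← h5, sec, Finset.sum_filter, Finset.mul_sum]
    refine Finset.sum_congr rfl fun g _ => ?_
    rw [Pi.mul_apply]
    by_cases hg : P (g ^ t)
    · rw [if_pos hg, if_pos hg, mul_assoc, Complex.mul_conj]
      push_cast
      ring
    · rw [if_neg hg, if_neg hg, zero_mul, zero_mul, mul_zero]
  exact_mod_cast h6

theorem gal_sec (t : ℕ) (P : G → Prop) [DecidablePred P]
    (hg : ∀ (a : G) (k : ℕ), k.Coprime (Nat.card G) → P a → P (a ^ k)) : Gal (sec t P) := fun g hgs k hk => by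
  rw [mem_sec] at hgs ⊢
  have h3 : (g ^ k) ^ t = (g ^ t) ^ k := by rw [← pow_mul, ← pow_mul, mul_comm]
  rw [h3]
  exact hg _ k hk hgs

/-- **The excess over a section.** -/
theorem ex_sec {χ : IrrCharacter G} {r n t : ℕ} (hr : r.Prime) (h1 : r ^ n ∣ Nat.card G)
    (h2 : ¬ r ^ (n + 1) ∣ Nat.card G) (ht1 : t ≡ 1 [MOD r ^ n]) (ht0 : Nat.card G ∣ t * r ^ n) (P : G → Prop)
    [DecidablePred P] (hc : ∀ a c : G, P a → P (c * a * c⁻¹))
    (hg : ∀ (a : G) (k : ℕ), k.Coprime (Nat.card G) → P a → P (a ^ k))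
    (h0 : ∀ g ∈ sec t P, (χ : G → ℂ) g ≠ 0) {z : G} (hz : z ∈ sec t P) (hz1 : Complex.normSq ((χ : G → ℂ) z) ≠ 1) :
    Ex χ (sec t P) (1 / (r : ℝ) ^ n) := by
  classical
  refine ⟨gal_sec t P hg, h0, ?_⟩
  obtain ⟨k1, hk1⟩ := sum_sec hr h1 h2 ht1 ht0 P hc hg χ
  obtain ⟨k2, hk2⟩ := sum_sec hr h1 h2 ht1 ht0 P hc hg (⟨fun _ => 1, Core.isIrr_one⟩ : IrrCharacter G)
  have h3 : ∑ g ∈ sec t P, Complex.normSq (((⟨fun _ => 1, Core.isIrr_one⟩ : IrrCharacter G) : G → ℂ) g)
      = (sec t P).card := by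
    rw [Finset.card_eq_sum_ones, Nat.cast_sum]
    exact Finset.sum_congr rfl fun g _ => by simp
  rw [h3] at hk2
  have hNpos : (0 : ℝ) < Nat.card G := by exact_mod_cast Nat.card_pos
  have hrpos : (0 : ℝ) < (r : ℝ) ^ n := by
    have := hr.pos
    positivity
  have hE : (r : ℝ) ^ n * (∑ g ∈ sec t P, Complex.normSq ((χ : G → ℂ) g) - (sec t P).card)
      = Nat.card G * ((k1 - k2 : ℤ) : ℝ) := by
    push_cast
    rw [mul_sub, mul_sub, hk1, hk2]
  have hk0 : 0 < k1 - k2 := by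
    by_contra hcon
    have hk1 : k1 - k2 ≤ 0 := by omega
    have hk2 : ((k1 - k2 : ℤ) : ℝ) ≤ 0 := by exact_mod_cast hk1
    have h3 : (r : ℝ) ^ n * (∑ g ∈ sec t P, Complex.normSq ((χ : G → ℂ) g) - (sec t P).card) ≤ 0 := by
      rw [hE]
      exact mul_nonpos_of_nonneg_of_nonpos hNpos.le hk2
    have h4 : ∑ g ∈ sec t P, Complex.normSq ((χ : G → ℂ) g) ≤ (sec t P).card := by
      by_contra hlt
      rw [not_le] at hlt
      have := mul_pos hrpos (sub_pos.2 hlt)
      linarith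
    exact hz1 (normSq_eq_one_of_sum χ (gal_sec t P hg) h0 h4 hz)
  have hk3 : (1 : ℝ) ≤ ((k1 - k2 : ℤ) : ℝ) := by exact_mod_cast hk0
  have h5 : (Nat.card G : ℝ) ≤ (r : ℝ) ^ n * (∑ g ∈ sec t P, Complex.normSq ((χ : G → ℂ) g) - (sec t P).card) := by
    rw [hE]
    nlinarith
  have h6 : 1 / (r : ℝ) ^ n * Nat.card G ≤ ∑ g ∈ sec t P, Complex.normSq ((χ : G → ℂ) g) - (sec t P).card := by
    rw [one_div, ← div_eq_inv_mul, div_le_iff₀ hrpos, mul_comm]
    exact h5
  linarith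

omit [Fintype G] in
/-- A value of absolute value one at an `r`-element: `r ∣ d² - 1`. -/
theorem dvd_of_normSq_one [Finite G] (χ : IrrCharacter G) {r : ℕ} (hr : r.Prime) {z : G} {k : ℕ} (hz : z ^ r ^ k = 1)
    (h : Complex.normSq ((χ : G → ℂ) z) = 1) : r ∣ charDegree (χ : G → ℂ) ^ 2 - 1 := by
  classical
  have := Fintype.ofFinite G
  obtain ⟨M, hM', hrM⟩ := CharactersDeep.BrauerLocal.exists_maximal r hr
  have hM : M.IsPrime := hM'.isPrime
  have h1 := H30.OZ.av_sub_mem hr hM hrM χ hz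
  have h2 := H30.OZ.av_sub_mem hr hM hrM χ (y := z⁻¹) (k := k) (by rw [inv_pow, hz, inv_one])
  have h3 : av χ z * av χ z⁻¹ = 1 := by
    apply Subtype.ext
    change (χ : G → ℂ) z * (χ : G → ℂ) z⁻¹ = 1
    rw [Core.isCharacter_apply_inv (Core.isIrr_isCharacter χ.2), Complex.mul_conj, h, Complex.ofReal_one]
  have h4 : av χ 1 = (charDegree (χ : G → ℂ) : AlgInt) := by
    apply Subtype.ext
    have h5 : (χ : G → ℂ) 1 = (charDegree (χ : G → ℂ) : ℂ) := (charDegree_irr χ).symm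
    simpa using h5
  have h5 : av χ z * av χ z⁻¹ - av χ 1 * av χ 1 ∈ M := by
    have h6 : av χ z * av χ z⁻¹ - av χ 1 * av χ 1 = (av χ z - av χ 1) * av χ z⁻¹ + av χ 1 * (av χ z⁻¹ - av χ 1) := by
      ring
    rw [h6]
    exact M.add_mem (M.mul_mem_right _ h1) (M.mul_mem_left _ h2)
  rw [h3, h4] at h5
  have h6 : (((1 - (charDegree (χ : G → ℂ) : ℤ) * charDegree (χ : G → ℂ) : ℤ)) : AlgInt) ∈ M := by
    push_cast
    exact h5
  have h7 := (int_mem_iff hr hM hrM _).1 h6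
  have hd := charDegree_pos χ
  have h8 : ((charDegree (χ : G → ℂ) ^ 2 - 1 : ℕ) : ℤ) = -(1 - (charDegree (χ : G → ℂ) : ℤ) * charDegree (χ : G → ℂ)) := by
    rw [Nat.cast_sub (Nat.one_le_pow _ _ hd)]
    push_cast
    ring
  have h9 : (r : ℤ) ∣ ((charDegree (χ : G → ℂ) ^ 2 - 1 : ℕ) : ℤ) := by
    rw [h8]
    exact (dvd_neg).2 h7
  exact_mod_cast h9

end Cfsg.Agent.H23.OZ
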