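import Cfsg.Agent.H23.OZ.FourTwoFacts
import Cfsg.Agent.H23.OZ.Sec
import Cfsg.Agent.H115.PelQuot
import Cfsg.Agent.H363.Cyc.F4TwoDeg
import Cfsg.Agent.H730.OZ.Asm

/-!
# S4842: the row `F₄(2)` (helper23)

Let `χ` of degree `d` vanish exactly on the class of `x`, `c = |C(x)|`.  The sieve leaves 51 degrees.
* `13 ∣ d`: `x` has order 13 and `c = 13`.  An even degree has the values of the 2-elements with mean of `|χ|²`
  at least two (`ex_even`), and there are `2 ^ 48` of them (Steinberg).  The odd degrees are 273 (less than 448), 1053 and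
  36855: the excess of the 5-singular elements and of two sections of elements of order 7 is too large.
* `13 ∤ d`: ten even degrees.  `x` a 2-element: `c ≥ 16`; otherwise `c ≤ 7`, and the small centralizers are impossible.
-/

set_option autoImplicit false
set_option maxRecDepth 100000

namespace Cfsg.Agent.H23.OZ.F42

/-- transport to the model over `ZMod 2` -/
theorem exists_equiv {F : Type*} [Field F] [Fintype F] (hF : Fintype.card F = 2) :
    Nonempty (↥(Cfsg.Lie.chevF4.group F) ≃* Cfsg.Agent.FourTwo.Base.LL) := by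
  have h3 : Fintype.card (ZMod 2) = Fintype.card F := by rw [hF, ZMod.card]
  have φ : ZMod 2 ≃+* F := FiniteField.ringEquivOfCardEq h3
  exact ⟨(ChevalleyStructure.FieldIso.groupEquiv Cfsg.Lie.chevF4 φ).symm⟩

open Cfsg Cfsg.Lie Cfsg.Agent.Characters Cfsg.Agent.H686.CharKit Cfsg.Agent.FourTwo.Base Cfsg.Agent.FourTwo.Classes
open Cfsg.Agent.H732.VZ Cfsg.Agent.H695.OneZero Cfsg.Agent.H733.OZ Cfsg.Agent.H604.OZ
open Cfsg.Agent.H30.OZ (Ex)

universe u

/-! ### Elements of order three in a finite group -/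

theorem nine_dvd_elt {G : Type*} [Group G] [Finite G] (h9 : 9 ∣ Nat.card G) {x : G} (hx : orderOf x = 3) :
    9 ∣ Nat.card (Subgroup.centralizer ({x} : Set G)) := by
  have hF : Fact (Nat.Prime 3) := ⟨Nat.prime_three⟩
  have hP : IsPGroup 3 (Subgroup.zpowers x) := IsPGroup.of_card (n := 1) (by rw [Nat.card_zpowers, hx, pow_one])
  obtain ⟨P, hPx⟩ := hP.exists_le_sylow
  have hxP : x ∈ (P : Subgroup G) := hPx (Subgroup.mem_zpowers x)
  have hx1 : x ≠ 1 := by
    rintro rfl
    rw [orderOf_one] at hx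
    norm_num at hx
  have hnt : Nontrivial (P : Subgroup G) := ⟨⟨⟨x, hxP⟩, 1, fun h => hx1 (congrArg Subtype.val h)⟩⟩
  have hZ := P.2.center_nontrivial
  have hZp : IsPGroup 3 (Subgroup.center (P : Subgroup G)) := P.2.to_subgroup _
  have h3 : 3 ∣ Nat.card (Subgroup.center (P : Subgroup G)) := by
    obtain ⟨m, hm⟩ := IsPGroup.iff_card.1 hZp
    rw [hm]
    refine dvd_pow_self 3 ?_
    rintro rfl
    rw [pow_zero] at hm
    have := Finite.one_lt_card_iff_nontrivial.2 hZ
    omega
  obtain ⟨z, hz⟩ := exists_prime_orderOf_dvd_card' 3 h3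
  have hz' : orderOf ((z : (P : Subgroup G)) : G) = 3 := by rw [Subgroup.orderOf_coe, Subgroup.orderOf_coe, hz]
  have hzc : ∀ g ∈ (P : Subgroup G), g * ((z : (P : Subgroup G)) : G) = ((z : (P : Subgroup G)) : G) * g := fun g hg =>
    congrArg Subtype.val (Subgroup.mem_center_iff.1 z.2 ⟨g, hg⟩)
  have hxm : x ∈ Subgroup.centralizer ({x} : Set G) := Subgroup.mem_centralizer_singleton_iff.2 rfl
  have hzm : ((z : (P : Subgroup G)) : G) ∈ Subgroup.centralizer ({x} : Set G) :=
    Subgroup.mem_centralizer_singleton_iff.2 (hzc x hxP).symm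
  by_cases hmem : x ∈ Subgroup.zpowers ((z : (P : Subgroup G)) : G)
  · have hle : (P : Subgroup G) ≤ Subgroup.centralizer ({x} : Set G) := by
      intro g hg
      rw [Subgroup.mem_centralizer_singleton_iff]
      obtain ⟨k, hk⟩ := Subgroup.mem_zpowers_iff.1 hmem
      have h1 : Commute g ((z : (P : Subgroup G)) : G) := hzc g hg
      rw [← hk]
      exact h1.zpow_right k
    exact (P.pow_dvd_card_of_pow_dvd_card (n := 2) (by norm_num; exact h9)).trans (Subgroup.card_dvd_of_le hle)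
  · refine nine_dvd_of (a := (⟨_, hzm⟩ : Subgroup.centralizer ({x} : Set G))) (b := ⟨x, hxm⟩)
      ((Subgroup.orderOf_coe _).symm.trans hz') ((Subgroup.orderOf_coe _).symm.trans hx)
      (Subtype.ext (hzc x hxP).symm) fun hm => ?_
    obtain ⟨i, hi⟩ := Subgroup.mem_zpowers_iff.1 hm
    exact hmem (Subgroup.mem_zpowers_iff.2 ⟨i, congrArg Subtype.val hi⟩)

/-- the centralizer of an element of order six -/
theorem nine_dvd_six {G : Type*} [Group G] [Finite G]
    (h : ∀ t : G, orderOf t = 2 → 9 ∣ Nat.card (Subgroup.centralizer ({t} : Set G))) {x : G} (hx : orderOf x = 6) :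
    9 ∣ Nat.card (Subgroup.centralizer ({x} : Set G)) := by
  have h2 : orderOf (x ^ 3) = 2 := by rw [orderOf_pow_of_dvd (by norm_num) (by rw [hx]; norm_num), hx]
  have h3 : orderOf (x ^ 2) = 3 := by rw [orderOf_pow_of_dvd (by norm_num) (by rw [hx]; norm_num), hx]
  have hm : x ^ 2 ∈ Subgroup.centralizer ({x ^ 3} : Set G) := by
    rw [Subgroup.mem_centralizer_singleton_iff, ← pow_add, ← pow_add]
  have h4 := nine_dvd_elt (h _ h2) (x := (⟨x ^ 2, hm⟩ : Subgroup.centralizer ({x ^ 3} : Set G)))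
    ((Subgroup.orderOf_coe _).symm.trans h3)
  refine h4.trans ?_
  let f : Subgroup.centralizer ({(⟨x ^ 2, hm⟩ : Subgroup.centralizer ({x ^ 3} : Set G))} :
      Set (Subgroup.centralizer ({x ^ 3} : Set G))) →* Subgroup.centralizer ({x} : Set G) :=
    { toFun := fun c => ⟨((c : Subgroup.centralizer ({x ^ 3} : Set G)) : G), by
        have h5 : ((c : Subgroup.centralizer ({x ^ 3} : Set G)) : G) * x ^ 2
            = x ^ 2 * ((c : Subgroup.centralizer ({x ^ 3} : Set G)) : G) :=
          congrArg Subtype.val (Subgroup.mem_centralizer_singleton_iff.1 c.2)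
        have h6 := Subgroup.mem_centralizer_singleton_iff.1 (c : Subgroup.centralizer ({x ^ 3} : Set G)).2
        rw [Subgroup.mem_centralizer_singleton_iff]
        set g := ((c : Subgroup.centralizer ({x ^ 3} : Set G)) : G)
        have h7 : Commute g (x ^ 2) := h5
        have h8 : Commute g (x ^ 3) := h6
        have h9 : Commute g ((x ^ 2)⁻¹ * x ^ 3) := h7.inv_right.mul_right h8
        have h10 : (x ^ 2)⁻¹ * x ^ 3 = x := by
          rw [pow_succ x 2, inv_mul_cancel_left]
        rw [h10] at h9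
        exact h9⟩
      map_one' := rfl
      map_mul' := fun _ _ => rfl }
  refine Subgroup.card_dvd_of_injective f fun a b hab => ?_
  have h5 := congrArg (fun z : Subgroup.centralizer ({x} : Set G) => (z : G)) hab
  exact Subtype.ext (Subtype.ext h5)

/-! ### The numbers -/

theorem cardN : Nat.card LL = 3311126603366400 := by rw [card_LL]; norm_num

theorem simple_LL : IsSimpleGroup LL := (Cfsg.Agent.S1054.result chevF4 (by simp)).1

/-- **Steinberg's count.** -/
theorem card_two : Nat.card {g : LL // ∃ k : ℕ, orderOf g = 2 ^ k} = 2 ^ 48 := by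
  have : Fact (Nat.Prime 2) := ⟨Nat.prime_two⟩
  have h := Cfsg.Agent.H115.card_pel_of_hasRGD' (Cfsg.Agent.Nodes.RGDChev.hasRGD_F4 (ZMod 2) 2)
    (a := 24) (m := (2 ^ 2 - 1) * (2 ^ 6 - 1) * (2 ^ 8 - 1) * (2 ^ 12 - 1)) card_LL (by norm_num)
  rw [h, ← pow_mul]

variable {χ : IrrCharacter LL} {x : LL}

theorem four_le (h : One χ x) : 4 ≤ cent x :=
  four_le_cent h (by rw [cardN]; norm_num) (by rw [cardN]; norm_num)

theorem hiso (h : One χ x) : ∀ r ∈ [13, 17], charDegree (χ : LL → ℂ) % r = 0 ∨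
    charDegree (χ : LL → ℂ) % r = 1 ∨ charDegree (χ : LL → ℂ) % r = r - 1 := by
  have := simple_LL
  intro r hr
  simp only [List.mem_cons, List.not_mem_nil, or_false] at hr
  rcases hr with rfl | rfl
  · exact H672.OZ.iso_mod h (by norm_num) (by norm_num) (by rw [cardN]; norm_num) (by rw [cardN]; norm_num)
      (by rw [cardN]; norm_num) (fun y hy => cent13 hy) (four_le h)
  · exact H672.OZ.iso_mod h (by norm_num) (by norm_num) (by rw [cardN]; norm_num) (by rw [cardN]; norm_num)
      (by rw [cardN]; norm_num) (fun y hy => cent17 hy) (four_le h)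

/-- the degrees divisible by 26 -/
def DA : List ℕ := [52, 390, 832, 936, 1820, 4368, 4914, 6240, 7020, 13312, 14976, 16848, 29120, 32760, 69888, 78624,
  88452, 99840, 112320, 126360, 212992, 239616, 269568, 465920, 524160, 589680, 1118208, 1257984, 1415232, 1597440,
  1797120, 2021760, 3407872, 3833856, 4313088, 7454720, 8386560, 9434880]

/-- the degrees not divisible by 13 -/
def DB : List ℕ := [324, 560, 2430, 4096, 24192, 30720, 181440, 1327104, 2293760, 9953280]

/-- **The sieve.** -/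
theorem mem_deg (h : One χ x) : charDegree (χ : LL → ℂ) ∈ [273, 1053, 36855] ++ DA ++ DB :=
  H672.OZ.mem_of_sieve h cardN (l := [(2, 24), (3, 6), (5, 2), (7, 2), (13, 1), (17, 1)]) (by decide +kernel)
    (by
      intro y hy
      simp only [List.mem_cons, List.not_mem_nil, or_false] at hy
      rcases hy with rfl | rfl | rfl | rfl | rfl | rfl <;> norm_num)
    (by decide +kernel) (four_le h) (hiso h) (by decide +kernel)

theorem DA_ok : ∀ d ∈ DA, d % 2 = 0 ∧ d % 13 = 0 := by decide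

theorem DB_ok : ∀ d ∈ DB, 448 ≤ d → d % 2 = 0 ∧ (d ^ 2 - 1) % 25 ≠ 0 ∧ (d ^ 2 - 1) % 49 ≠ 0 := by decide +kernel

theorem deg_ge (h : One χ x) : 448 ≤ charDegree (χ : LL → ℂ) :=
  Cfsg.Agent.H363.Cyc.F4TwoDeg.md_LL χ (one_lt_deg h).ne'

/-! ### The 2-elements -/

section Two

variable [Fintype LL] [DecidableEq LL]

open Finset

/-- a 2-element -/
def Is2 (g : LL) : Prop := ∃ k : ℕ, orderOf g = 2 ^ k

open Classical in
/-- the 2-elements at which `χ` does not vanish -/
noncomputable def Y2 (χ : IrrCharacter LL) : Finset LL := univ.filter fun g => Is2 g ∧ (χ : LL → ℂ) g ≠ 0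

omit [DecidableEq LL] in
theorem mem_Y2 {g : LL} : g ∈ Y2 χ ↔ Is2 g ∧ (χ : LL → ℂ) g ≠ 0 := by
  simp [Y2]

theorem gal_Y2 (χ : IrrCharacter LL) : Gal (Y2 χ) := by
  classical
  intro g hg k hk
  rw [mem_Y2] at hg ⊢
  refine ⟨?_, ?_⟩
  · obtain ⟨m, hm⟩ := hg.1
    exact ⟨m, by rw [orderOf_pow_of_coprime hk, hm]⟩
  · have h1 := (gal_zero χ).compl g (by
      rw [mem_compl, mem_filter]
      exact fun h => hg.2 h.2) k hk
    rw [mem_compl, mem_filter] at h1
    exact fun h => h1 ⟨mem_univ _, h⟩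

theorem ex_Y2 (hd : 2 ∣ charDegree (χ : LL → ℂ)) : Ex χ (Y2 χ) ((Y2 χ).card / Nat.card LL) := by
  refine ex_even (gal_Y2 χ) (fun g hg => (mem_Y2.1 hg).2) (e := 23) (fun g hg => ?_) hd
  obtain ⟨k, hk⟩ := (mem_Y2.1 hg).1
  have h2 : orderOf g ∣ 2 ^ 24 * ((2 ^ 2 - 1) * (2 ^ 6 - 1) * (2 ^ 8 - 1) * (2 ^ 12 - 1)) := by
    rw [← card_LL]; exact orderOf_dvd_natCard g
  have h3 : orderOf g ∣ 2 ^ 24 := by
    refine Nat.Coprime.dvd_of_dvd_mul_right ?_ h2
    rw [hk]
    exact Nat.Coprime.pow_left _ (by norm_num)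
  exact orderOf_dvd_iff_pow_eq_one.1 h3

omit [Fintype LL] [DecidableEq LL] in
theorem is2_of_conj {g g' : LL} (h : IsConj g g') (hg : Is2 g) : Is2 g' := by
  obtain ⟨k, hk⟩ := hg
  exact ⟨k, by rw [← orderOf_eq_of_conj h, hk]⟩

open Classical in
omit [DecidableEq LL] in
theorem card_is2 : (univ.filter fun g : LL => Is2 g).card = 2 ^ 48 := by
  rw [← card_two, ← Fintype.card_subtype, ← Nat.card_eq_fintype_card]
  rfl

omit [DecidableEq LL] in
/-- `x` not a 2-element -/
theorem card_Y2 (h : One χ x) (hx : ¬ Is2 x) : (Y2 χ).card = 2 ^ 48 := by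
  classical
  rw [← card_is2]
  congr 1
  ext g
  rw [mem_Y2, mem_filter]
  refine ⟨fun h1 => ⟨mem_univ _, h1.1⟩, fun h1 => ⟨h1.2, fun h0 => hx (is2_of_conj (h.uniq g h0).symm h1.2)⟩⟩

omit [DecidableEq LL] in
/-- `x` a 2-element -/
theorem card_Y2' (h : One χ x) : ((2 ^ 48 : ℕ) : ℝ) * cent x ≤ (Y2 χ).card * cent x + Nat.card LL := by
  classical
  have h1 := card_zeros h
  have h2 : 2 ^ 48 ≤ (Y2 χ).card + (univ.filter fun g : LL => (χ : LL → ℂ) g = 0).card := by
    rw [← card_is2]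
    refine (card_le_card (fun g hg => ?_)).trans (card_union_le _ _)
    rw [mem_filter] at hg
    rw [mem_union, mem_Y2, mem_filter]
    by_cases h0 : (χ : LL → ℂ) g = 0
    · exact Or.inr ⟨mem_univ _, h0⟩
    · exact Or.inl ⟨hg.2, h0⟩
  have h3 : 2 ^ 48 * cent x ≤ (Y2 χ).card * cent x + Nat.card LL := by
    rw [← h1]
    have h4 := Nat.mul_le_mul_right (cent x) h2
    rw [add_mul] at h4
    exact h4
  exact_mod_cast h3

/-- **The inequality for an even degree.** -/
theorem ineq (h : One χ x) (hd : 2 ∣ charDegree (χ : LL → ℂ)) {Y' : Finset LL} {t : ℝ} (hY' : Ex χ Y' t)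
    (hdis : ∀ g ∈ Y', ¬ Is2 g) :
    (cent x : ℝ) * (281474976710656 / 3311126603366400 + t) ≤ 2 ∧
      (¬ Is2 x → (cent x : ℝ) * (281474976710656 / 3311126603366400 + t) ≤ 1) := by
  have hdj : Disjoint (Y2 χ) Y' := Finset.disjoint_left.2 fun g hg hg' => hdis g hg' (mem_Y2.1 hg).1
  have h1 := ((ex_Y2 hd).union hY' hdj).cent_le h
  have h1' : (cent x : ℝ) * (((Y2 χ).card : ℝ) / Nat.card LL + t) ≤ 1 := h1
  rw [cardN] at h1'
  constructor
  · have h2 := card_Y2' h
    rw [cardN] at h2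
    push_cast at h1' h2
    have h3 : (cent x : ℝ) * (281474976710656 / 3311126603366400 + t) =
        (281474976710656 * cent x) / 3311126603366400 + cent x * t := by ring
    have h4 : (cent x : ℝ) * ((Y2 χ).card / 3311126603366400 + t) =
        ((Y2 χ).card * cent x) / 3311126603366400 + cent x * t := by ring
    rw [h3]
    rw [h4] at h1'
    have h5 : (281474976710656 * (cent x : ℝ)) / 3311126603366400 ≤
        (((Y2 χ).card : ℝ) * cent x + 3311126603366400) / 3311126603366400 := by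
      refine div_le_div_of_nonneg_right ?_ (by norm_num)
      exact h2
    rw [add_div, div_self (by norm_num)] at h5
    linarith
  · intro hx
    rw [card_Y2 h hx] at h1'
    push_cast at h1'
    exact h1'

end Two

/-! ### Sections of elements of order seven -/

/-- conjugate to a nontrivial power -/
def PP (z a : LL) : Prop := ∃ k : ℕ, ¬ 7 ∣ k ∧ IsConj (z ^ k) a

/-- the exponent of the 7-part -/
def tt : ℕ := 270296049254400

theorem tt_mod : tt ≡ 1 [MOD 7 ^ 2] := by decide

theorem tt_dvd : Nat.card LL ∣ tt * 7 ^ 2 := by rw [cardN]; unfold tt; decide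

theorem ord_PP {z a : LL} (hz : orderOf z = 7) (h : PP z a) : orderOf a = 7 := by
  obtain ⟨k, hk, hc⟩ := h
  rw [← orderOf_eq_of_conj hc, Nat.Coprime.orderOf_pow, hz]
  rw [hz]
  exact (Nat.Prime.coprime_iff_not_dvd (by norm_num)).2 hk

theorem seven_dvd {z g : LL} (hz : orderOf z = 7) (h : PP z (g ^ tt)) : 7 ∣ orderOf g := by
  rw [← ord_PP hz h]
  exact orderOf_pow_dvd _

/-- **The excess of a section.** -/
theorem ex_PP [Fintype LL] (h : One χ x) (hx : orderOf x = 13) (hd : ¬ 7 ∣ charDegree (χ : LL → ℂ) ^ 2 - 1) {z : LL}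
    (hz : orderOf z = 7) [DecidablePred (PP z)] : Ex χ (sec tt (PP z)) (1 / ((7 : ℕ) : ℝ) ^ 2) := by
  have hN : Nat.card LL = 3311126603366400 := cardN
  refine ex_sec (r := 7) (n := 2) (t := tt) (by norm_num) (by rw [hN]; norm_num) (by rw [hN]; norm_num) tt_mod tt_dvd
    (PP z) ?_ ?_ ?_ (z := z) ?_ ?_
  · rintro a c ⟨k, hk, hc⟩
    exact ⟨k, hk, hc.trans (isConj_iff.2 ⟨c, rfl⟩)⟩
  · rintro a m hm ⟨k, hk, hc⟩
    refine ⟨k * m, ?_, ?_⟩
    · intro hd
      rcases (Nat.Prime.dvd_mul (by norm_num : Nat.Prime 7)).1 hd with h1 | h1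
      · exact hk h1
      · have h2 : 7 ∣ Nat.card LL := by rw [hN]; norm_num
        have h3 := Nat.dvd_gcd h1 h2
        rw [hm] at h3
        norm_num at h3
    · rw [pow_mul]
      exact Cfsg.Agent.H30.OZ.isConj_pow hc m
  · intro g hg h0
    have h1 := seven_dvd hz (mem_sec.1 hg)
    rw [← orderOf_eq_of_conj (h.uniq g h0), hx] at h1
    norm_num at h1
  · rw [mem_sec]
    exact ⟨tt, by decide, IsConj.refl _⟩
  · intro h1
    exact hd (dvd_of_normSq_one χ (by norm_num) (z := z) (k := 1) (by rw [pow_one, ← hz, pow_orderOf_eq_one]) h1)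

/-! ### The row -/

theorem not_odd (h : One χ x) (hd : charDegree (χ : LL → ℂ) = 1053 ∨ charDegree (χ : LL → ℂ) = 36855) : False := by
  classical
  have := Fintype.ofFinite LL
  have hN : Nat.card LL = 3311126603366400 := cardN
  obtain ⟨hx, hc, -⟩ := H672.OZ.full h (r := 13) (n := 1) (by norm_num) (by norm_num) (by rw [hN]; norm_num)
    (by rw [hN]; norm_num) (by rcases hd with hd | hd <;> rw [hd] <;> norm_num)
  have h7 : ¬ 7 ∣ charDegree (χ : LL → ℂ) ^ 2 - 1 := by rcases hd with hd | hd <;> rw [hd] <;> norm_num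
  have E1 := ex_sing h (r := 5) (n := 2) (by norm_num) (by rw [hN]; norm_num) (by rw [hN]; norm_num)
    (by rw [hx]; norm_num) (by rcases hd with hd | hd <;> rw [hd] <;> norm_num)
  have E2 := ex_PP h hx h7 ordA
  have E3 := ex_PP h hx h7 ordB
  have d12 : Disjoint (sing LL 5) (sec tt (PP (wd wA))) := Finset.disjoint_left.2 fun g h1 h2 =>
    no35 g ⟨mem_sing.1 h1, seven_dvd ordA (mem_sec.1 h2)⟩
  have d3 : Disjoint (sing LL 5 ∪ sec tt (PP (wd wA))) (sec tt (PP (wd wB))) := by
    refine Finset.disjoint_left.2 fun g h1 h2 => ?_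
    rcases Finset.mem_union.1 h1 with h1 | h1
    · exact no35 g ⟨mem_sing.1 h1, seven_dvd ordB (mem_sec.1 h2)⟩
    · obtain ⟨k, hk, hkc⟩ := mem_sec.1 h1
      obtain ⟨m, hm, hmc⟩ := mem_sec.1 h2
      have hk7 : k.Coprime 7 := ((Nat.Prime.coprime_iff_not_dvd (by norm_num)).2 hk).symm
      obtain ⟨l, hl⟩ : ∃ l : ℕ, (wd wA ^ k) ^ l = wd wA := exists_pow_eq_self_of_coprime (by rw [ordA]; exact hk7)
      have h3 := Cfsg.Agent.H30.OZ.isConj_pow (hkc.trans hmc.symm) l
      rw [hl, ← pow_mul] at h3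
      exact not_conj _ h3
  have h1 := ((E1.union E2 d12).union E3 d3).cent_le h
  have h2 : ((13 : ℕ) : ℝ) * (1 / ((5 : ℕ) : ℝ) ^ 2 + 1 / ((7 : ℕ) : ℝ) ^ 2 + 1 / ((7 : ℕ) : ℝ) ^ 2) ≤ 1 := by
    have h3 : (cent x : ℝ) = ((13 : ℕ) : ℝ) := by rw [hc, pow_one]
    rw [← h3]
    exact h1
  norm_num at h2

theorem not_even13 (h : One χ x) (h2 : 2 ∣ charDegree (χ : LL → ℂ)) (h13 : 13 ∣ charDegree (χ : LL → ℂ)) : False := by
  classical
  have := Fintype.ofFinite LL
  have hN : Nat.card LL = 3311126603366400 := cardN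
  obtain ⟨hx, hc, -⟩ := H672.OZ.full h (r := 13) (n := 1) (by norm_num) (by norm_num) (by rw [hN]; norm_num)
    (by rw [hN]; norm_num) (by rw [pow_one]; exact h13)
  have hx2 : ¬ Is2 x := by
    rintro ⟨k, hk⟩
    rw [hx] at hk
    have h3 : 13 ∣ 2 ^ k := by rw [← hk]
    have h4 := (Nat.prime_dvd_prime_iff_eq (by norm_num) (by norm_num)).1
      ((by norm_num : Nat.Prime 13).dvd_of_dvd_pow h3)
    norm_num at h4
  have h3 := (ineq h h2 (Y' := ∅) (t := 0) ⟨fun g hg => by simp at hg, fun g hg => by simp at hg, by simp⟩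
    (fun g hg => by simp at hg)).2 hx2
  have h4 : (cent x : ℝ) = ((13 : ℕ) : ℝ) := by rw [hc, pow_one]
  rw [h4] at h3
  norm_num at h3

theorem not_two_of_dvd {r : ℕ} (hr : r.Prime) (hr2 : r ≠ 2) {g : LL} (hg : r ∣ orderOf g) : ¬ Is2 g := by
  rintro ⟨k, hk⟩
  rw [hk] at hg
  exact hr2 ((Nat.prime_dvd_prime_iff_eq hr Nat.prime_two).1 (hr.dvd_of_dvd_pow hg))

theorem not_B (h : One χ x) (h2 : 2 ∣ charDegree (χ : LL → ℂ)) (h25 : ¬ 5 ^ 2 ∣ charDegree (χ : LL → ℂ) ^ 2 - 1)
    (h49 : ¬ 7 ^ 2 ∣ charDegree (χ : LL → ℂ) ^ 2 - 1) : False := by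
  classical
  have := Fintype.ofFinite LL
  have hN : Nat.card LL = 3311126603366400 := cardN
  have hc4 := four_le h
  have hoc : orderOf x ∣ cent x := Subgroup.orderOf_dvd_natCard _ (Subgroup.mem_centralizer_singleton_iff.2 rfl)
  have hx1 := ne_one h
  by_cases hx5 : 5 ∣ orderOf x
  · -- the sections of 7-elements
    have hx2 : ¬ Is2 x := not_two_of_dvd (by norm_num) (by norm_num) hx5
    have hx7 : ¬ 7 ∣ orderOf x := fun h7 => no35 x ⟨hx5, h7⟩
    have E1 := ex_sing h (r := 7) (n := 2) (by norm_num) (by rw [hN]; norm_num) (by rw [hN]; norm_num) hx7 h49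
    have h3 := (ineq h h2 E1 fun g hg => not_two_of_dvd (by norm_num) (by norm_num) (mem_sing.1 hg)).2 hx2
    have h5c : 5 ∣ cent x := hx5.trans hoc
    have h5 : cent x ≠ 5 := fun h5 => by
      have h6 := cent_prime hx1 (by rw [h5]; norm_num)
      rw [h5, hN] at h6
      norm_num at h6
    have h10 : 10 ≤ cent x := by omega
    have h10' : ((10 : ℕ) : ℝ) ≤ cent x := by exact_mod_cast h10
    have h6 : ((10 : ℕ) : ℝ) * (281474976710656 / 3311126603366400 + 1 / ((7 : ℕ) : ℝ) ^ 2) ≤ 1 :=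
      le_trans (mul_le_mul_of_nonneg_right h10' (by positivity)) h3
    norm_num at h6
  · have E1 := ex_sing h (r := 5) (n := 2) (by norm_num) (by rw [hN]; norm_num) (by rw [hN]; norm_num) hx5 h25
    have h3 := ineq h h2 E1 fun g hg => not_two_of_dvd (by norm_num) (by norm_num) (mem_sing.1 hg)
    by_cases hx2 : Is2 x
    · obtain ⟨k, hk⟩ := hx2
      have h16 : 16 ≤ cent x := le_cent hk
      have h16' : ((16 : ℕ) : ℝ) ≤ cent x := by exact_mod_cast h16
      have h6 : ((16 : ℕ) : ℝ) * (281474976710656 / 3311126603366400 + 1 / ((5 : ℕ) : ℝ) ^ 2) ≤ 2 :=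
        le_trans (mul_le_mul_of_nonneg_right h16' (by positivity)) h3.1
      norm_num at h6
    · have h4 := h3.2 hx2
      have h8 : cent x < 8 := by
        by_contra hlt
        rw [not_lt] at hlt
        have h8' : ((8 : ℕ) : ℝ) ≤ cent x := by exact_mod_cast hlt
        have h6 : ((8 : ℕ) : ℝ) * (281474976710656 / 3311126603366400 + 1 / ((5 : ℕ) : ℝ) ^ 2) ≤ 1 :=
          le_trans (mul_le_mul_of_nonneg_right h8' (by positivity)) h4
        norm_num at h6
      have hcases : cent x = 4 ∨ cent x = 5 ∨ cent x = 6 ∨ cent x = 7 := by omega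
      rcases hcases with hc | hc | hc | hc
      · rw [hc] at hoc
        obtain ⟨k, -, hk⟩ := (Nat.dvd_prime_pow Nat.prime_two).1 (show orderOf x ∣ 2 ^ 2 from hoc)
        exact hx2 ⟨k, hk⟩
      · have h6 := cent_prime hx1 (by rw [hc]; norm_num)
        rw [hc, hN] at h6
        norm_num at h6
      · rw [hc] at hoc
        have h9 : 9 ∣ cent x := by
          have h6 : orderOf x ≤ 6 := Nat.le_of_dvd (by norm_num) hoc
          have h1 : orderOf x ≠ 1 := fun h1 => hx1 (orderOf_eq_one_iff.1 h1)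
          have h2' : orderOf x ≠ 2 := fun h2 => hx2 ⟨1, h2.trans (pow_one 2).symm⟩
          have h0 := orderOf_pos x
          have h7 : orderOf x = 3 ∨ orderOf x = 6 := by
            interval_cases hox : orderOf x <;> omega
          rcases h7 with h7 | h7
          · exact nine_dvd_elt (by rw [hN]; norm_num) h7
          · exact nine_dvd_six (fun t ht => nine_dvd ht) h7
        rw [hc] at h9
        norm_num at h9
      · have h6 := cent_prime hx1 (by rw [hc]; norm_num)
        rw [hc, hN] at h6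
        norm_num at h6

theorem no_one (h : One χ x) : False := by
  have hge := deg_ge h
  have hm := mem_deg h
  rw [List.mem_append, List.mem_append] at hm
  rcases hm with (hm | hm) | hm
  · simp only [List.mem_cons, List.not_mem_nil, or_false] at hm
    rcases hm with hm | hm | hm
    · omega
    · exact not_odd h (Or.inl hm)
    · exact not_odd h (Or.inr hm)
  · obtain ⟨h1, h2⟩ := DA_ok _ hm
    exact not_even13 h (Nat.dvd_of_mod_eq_zero h1) (Nat.dvd_of_mod_eq_zero h2)
  · obtain ⟨h1, h2, h3⟩ := DB_ok _ hm hge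
    exact not_B h (Nat.dvd_of_mod_eq_zero h1) (fun h4 => h2 (Nat.mod_eq_zero_of_dvd h4))
      (fun h4 => h3 (Nat.mod_eq_zero_of_dvd h4))

/-- **The row `F₄(2)`**, model over `ZMod 2`. -/
theorem row_LL : H730.OZ.Row LL := row_of fun _ _ h => no_one h

/-- **The row `F₄(2)`**. -/
theorem row_F4_two {F : Type*} [Field F] [Fintype F] (hF : Fintype.card F = 2) {S : Type u} [Group S] [Finite S]
    (e : S ≃* ↥(chevF4.group F)) : H730.OZ.Row S := by
  obtain ⟨f⟩ := exists_equiv hF
  have hfin : Finite ↥(chevF4.group F) := inferInstance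
  have h := @H730.OZ.Row.congr ↥(chevF4.group F) LL inferInstance inferInstance hfin inferInstance
  have h' := @H730.OZ.Row.congr S ↥(chevF4.group F) inferInstance inferInstance inferInstance hfin
  exact h' e (h f row_LL)

end Cfsg.Agent.H23.OZ.F42
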