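import Cfsg.Agent.H30.OZ.Bad
import Cfsg.Agent.H733.OZ.Good

/-!
# One vanishing class: characters of even degree at the 2-elements (helper23, S4842)

* `even_sum` : the mean of `|χ (u ^ (2 j + 1))| ^ 2`, `u ^ (2 h) = 1`, is an integer, and even if the degree is even;
* `ex_even`  : `χ` of even degree, `Y` a Galois-stable set of 2-elements without zeros: the excess is at least `|Y|`;
* `ex_sing`  : `x` of order prime to `r`, `|G|_r = r ^ n ∤ d² - 1`: the excess over the `r`-singular elements is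
  at least `|G| / r ^ n`.
-/

set_option autoImplicit false

namespace Cfsg.Agent.H23.OZ

open Cfsg Cfsg.Agent.Characters Cfsg.Agent.H686.CharKit Finset
open Cfsg.Agent.H732.VZ Cfsg.Agent.H695.OneZero Cfsg.Agent.H733.OZ
open Cfsg.Agent.H30.OZ (Ex)
open scoped ComplexConjugate

universe u

/-! ### roots of unity -/

/-- The sum of the odd powers of a root of unity. -/
theorem sum_odd {z : ℂ} {h : ℕ} (hz : z ^ (2 * h) = 1) : ∑ j ∈ range h, z ^ (2 * j + 1)
    = h * (((if z = 1 then 1 else if z = -1 then -1 else 0 : ℤ)) : ℂ) := by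
  by_cases h1 : z = 1
  · subst h1
    simp
  by_cases h2 : z = -1
  · subst h2
    rw [if_neg h1, if_pos rfl]
    have h3 : ∀ j ∈ range h, (-1 : ℂ) ^ (2 * j + 1) = -1 := fun j _ => by
      rw [pow_succ, pow_mul]; simp
    rw [sum_congr rfl h3]
    simp
  · rw [if_neg h1, if_neg h2, Int.cast_zero, mul_zero]
    have h3 : z ^ 2 - 1 ≠ 0 := by
      intro h4
      have h5 : (z - 1) * (z + 1) = 0 := by linear_combination h4
      rcases mul_eq_zero.1 h5 with h6 | h6
      · exact h1 (sub_eq_zero.1 h6)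
      · exact h2 (eq_neg_of_add_eq_zero_left h6)
    have h4 := geom_sum_mul (z ^ 2) h
    rw [← pow_mul, hz, sub_self] at h4
    have h5 : ∑ j ∈ range h, (z ^ 2) ^ j = 0 := (mul_eq_zero.1 h4).resolve_right h3
    have h6 : ∀ j ∈ range h, z ^ (2 * j + 1) = z * (z ^ 2) ^ j := fun j _ => by
      rw [pow_succ, pow_mul, mul_comm]
    rw [sum_congr rfl h6, ← mul_sum, h5, mul_zero]

/-- A symmetric sum. -/
theorem even_of_symm {ι : Type*} [Fintype ι] (c : ι → ι → ℤ) (h1 : ∀ i, c i i = 1)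
    (hs : ∀ i j, c i j = c j i) (hd : 2 ∣ Fintype.card ι) : (2 : ℤ) ∣ ∑ i, ∑ j, c i j := by
  classical
  have h2 : ((∑ i, ∑ j, c i j : ℤ) : ZMod 2) = 0 := by
    rw [← sum_product', Int.cast_sum, ← sum_filter_add_sum_filter_not _ (fun p : ι × ι => p.1 = p.2)]
    have h3 : ∑ p ∈ (univ ×ˢ univ : Finset (ι × ι)).filter (fun p : ι × ι => ¬ p.1 = p.2), ((c p.1 p.2 : ℤ) : ZMod 2)
        = 0 := by
      refine sum_involution (fun p _ => (p.2, p.1)) (fun p _ => ?_) (fun p hp _ h => ?_) (fun p hp => ?_) fun p _ => rfl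
      · rw [hs p.2 p.1]
        exact CharTwo.add_self_eq_zero _
      · rw [mem_filter] at hp
        exact hp.2 (congrArg Prod.snd h)
      · rw [mem_filter] at hp ⊢
        exact ⟨by simp, fun h => hp.2 h.symm⟩
    have h4 : ∑ p ∈ (univ ×ˢ univ : Finset (ι × ι)).filter (fun p : ι × ι => p.1 = p.2), ((c p.1 p.2 : ℤ) : ZMod 2)
        = (Fintype.card ι : ZMod 2) := by
      have h5 : ∀ p ∈ (univ ×ˢ univ : Finset (ι × ι)).filter (fun p : ι × ι => p.1 = p.2),
          ((c p.1 p.2 : ℤ) : ZMod 2) = 1 := fun p hp => by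
        rw [mem_filter] at hp
        rw [hp.2, h1, Int.cast_one]
      rw [sum_congr rfl h5, sum_const, nsmul_eq_mul, mul_one]
      congr 1
      have h6 : (univ ×ˢ univ : Finset (ι × ι)).filter (fun p : ι × ι => p.1 = p.2) = (univ : Finset ι).diag := by
        ext p
        simp [mem_diag]
      rw [h6, diag_card, card_univ]
    rw [h3, h4, add_zero]
    exact (ZMod.natCast_eq_zero_iff _ _).2 hd
  exact (ZMod.intCast_zmod_eq_zero_iff_dvd _ 2).1 h2

variable {G : Type u} [Group G]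

/-- **The mean of the odd powers.** -/
theorem even_sum {χ : G → ℂ} (hχ : IsCharacter G χ) {v : G} {h : ℕ} (hh : h ≠ 0) (hv : v ^ (2 * h) = 1) :
    ∃ (m : ℤ) (d : ℕ), χ 1 = d ∧ (2 ∣ d → (2 : ℤ) ∣ m) ∧
      ∑ j ∈ range h, Complex.normSq (χ (v ^ (2 * j + 1))) = h * (m : ℝ) := by
  classical
  obtain ⟨d, μ, hd, h1, h2⟩ := GaloisBasic.isCharacter_exists_fin_pow hχ v (n := 2 * h) (by omega) hv
  have hc : ∀ i, μ i * conj (μ i) = 1 := fun i => by
    rw [Complex.mul_conj, Complex.normSq_eq_norm_sq, Complex.norm_eq_one_of_pow_eq_one (h1 i) (by omega)]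
    simp
  set c : Fin d → Fin d → ℤ := fun i l => if μ i * conj (μ l) = 1 then 1 else if μ i * conj (μ l) = -1 then -1 else 0
    with hcdef
  refine ⟨∑ i, ∑ l, c i l, d, hd, fun h2d => ?_, ?_⟩
  · refine even_of_symm c (fun i => ?_) (fun i l => ?_) (by rwa [Fintype.card_fin])
    · simp only [hcdef]
      rw [if_pos (hc i)]
    · simp only [hcdef]
      have h3 : μ l * conj (μ i) = conj (μ i * conj (μ l)) := by
        rw [map_mul, Complex.conj_conj, mul_comm]
      have h4 : μ l * conj (μ i) = 1 ↔ μ i * conj (μ l) = 1 := by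
        rw [h3]
        exact ⟨fun h => by rw [← Complex.conj_conj (μ i * conj (μ l)), h, map_one], fun h => by rw [h, map_one]⟩
      have h5 : μ l * conj (μ i) = -1 ↔ μ i * conj (μ l) = -1 := by
        rw [h3]
        exact ⟨fun h => by rw [← Complex.conj_conj (μ i * conj (μ l)), h, map_neg, map_one],
          fun h => by rw [h, map_neg, map_one]⟩
      simp only [h4, h5]
  · have h3 : ∀ k : ℕ, ((Complex.normSq (χ (v ^ k)) : ℝ) : ℂ) = ∑ i, ∑ l, (μ i * conj (μ l)) ^ k := by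
      intro k
      rw [← Complex.mul_conj, h2 k, map_sum, sum_mul_sum]
      refine sum_congr rfl fun i _ => sum_congr rfl fun l _ => ?_
      rw [map_pow, mul_pow]
    have h4 : ((∑ j ∈ range h, Complex.normSq (χ (v ^ (2 * j + 1))) : ℝ) : ℂ)
        = ((h * ((∑ i, ∑ l, c i l : ℤ) : ℝ) : ℝ) : ℂ) := by
      push_cast
      rw [sum_congr rfl fun j _ => h3 (2 * j + 1), sum_comm, mul_sum]
      refine sum_congr rfl fun i _ => ?_
      rw [sum_comm, mul_sum]
      refine sum_congr rfl fun l _ => ?_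
      rw [sum_odd]
      rw [mul_pow, h1 i, one_mul, ← map_pow, h1 l, map_one]
    exact_mod_cast h4

/-! ### a lift of a residue -/

theorem exists_coprime_lift {a M N : ℕ} (hM : M ≠ 0) (hN : N ≠ 0) (ha : a.Coprime M) :
    ∃ k : ℕ, k.Coprime N ∧ k ≡ a [MOD M] := by
  have hMN : NeZero (M * N) := ⟨Nat.mul_ne_zero hM hN⟩
  have hM' : NeZero M := ⟨hM⟩
  obtain ⟨w, hw⟩ := ZMod.unitsMap_surjective (n := M) (m := M * N) (Dvd.intro _ rfl) (ZMod.unitOfCoprime a ha)
  refine ⟨(w : ZMod (M * N)).val, (ZMod.val_coe_unit_coprime w).coprime_dvd_right (Dvd.intro_left _ rfl), ?_⟩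
  rw [← ZMod.natCast_eq_natCast_iff]
  have h1 := congrArg (fun z : (ZMod M)ˣ => (z : ZMod M)) hw
  simp only [ZMod.coe_unitOfCoprime] at h1
  rw [← h1, ZMod.unitsMap_def, Units.coe_map]
  change (((w : ZMod (M * N)).val : ℕ) : ZMod M) = ZMod.castHom (Dvd.intro N rfl : M ∣ M * N) (ZMod M) (w : ZMod (M * N))
  rw [ZMod.castHom_apply, ZMod.natCast_val]

variable [Fintype G]

/-- **Even degree**: the excess over a Galois-stable set of 2-elements without zeros. -/
theorem ex_even {χ : IrrCharacter G} {Y : Finset G} (hY : Gal Y) (h0 : ∀ g ∈ Y, (χ : G → ℂ) g ≠ 0) {e : ℕ}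
    (he : ∀ g ∈ Y, g ^ 2 ^ (e + 1) = 1) (hd : 2 ∣ charDegree (χ : G → ℂ)) : Ex χ Y (Y.card / Nat.card G) := by
  classical
  refine ⟨hY, h0, ?_⟩
  have hG : (Nat.card G : ℝ) ≠ 0 := by exact_mod_cast Nat.card_pos.ne'
  rw [div_mul_cancel₀ _ hG]
  have hpe : (0 : ℝ) < ((2 ^ e : ℕ) : ℝ) := by positivity
  -- every element
  have h1 : ∀ g ∈ Y, ((2 ^ e : ℕ) : ℝ) * 2 ≤ ∑ j ∈ range (2 ^ e), Complex.normSq ((χ : G → ℂ) (g ^ (2 * j + 1))) := by
    intro g hg
    obtain ⟨m, d, hm1, hm2, hm3⟩ := even_sum (Core.isIrr_isCharacter χ.2) (v := g) (h := 2 ^ e) (by positivity)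
      (by rw [mul_comm, ← pow_succ]; exact he g hg)
    have h2 : d = charDegree (χ : G → ℂ) := by
      rw [← charDegree_irr χ] at hm1
      exact_mod_cast hm1.symm
    have h3 := hm2 (by rw [h2]; exact hd)
    have h4 : 0 < ∑ j ∈ range (2 ^ e), Complex.normSq ((χ : G → ℂ) (g ^ (2 * j + 1))) := by
      refine sum_pos' (fun j _ => Complex.normSq_nonneg _) ⟨0, mem_range.2 (by positivity), ?_⟩
      rw [mul_zero, zero_add, pow_one]
      exact Complex.normSq_pos.2 (h0 g hg)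
    rw [hm3] at h4 ⊢
    have h5 : (0 : ℝ) < m := by
      by_contra hcon
      rw [not_lt] at hcon
      nlinarith
    have h6 : 0 < m := by exact_mod_cast h5
    have h7 : 2 ≤ m := Int.le_of_dvd h6 h3
    have h8 : (2 : ℝ) ≤ m := by exact_mod_cast h7
    exact mul_le_mul_of_nonneg_left h8 hpe.le
  have h2 := sum_le_sum h1
  rw [sum_const, nsmul_eq_mul, sum_comm] at h2
  have h3 : ∀ j ∈ range (2 ^ e), ∑ g ∈ Y, Complex.normSq ((χ : G → ℂ) (g ^ (2 * j + 1)))
      = ∑ g ∈ Y, Complex.normSq ((χ : G → ℂ) g) := by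
    intro j _
    obtain ⟨k, hk, hkj⟩ := exists_coprime_lift (a := 2 * j + 1) (M := 2 ^ (e + 1)) (N := Nat.card G) (by positivity)
      Nat.card_pos.ne' (Nat.Coprime.pow_right _ ((Nat.coprime_two_right (n := 2 * j + 1)).2 ⟨j, rfl⟩))
    rw [← hY.sum_pow hk fun g => Complex.normSq ((χ : G → ℂ) g)]
    refine sum_congr rfl fun g hg => ?_
    rw [pow_eq_pow_of_modEq hkj (he g hg)]
  rw [sum_congr rfl h3, sum_const, nsmul_eq_mul, card_range] at h2
  have h4 : ((2 ^ e : ℕ) : ℝ) * ((Y.card : ℝ) + Y.card)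
      ≤ ((2 ^ e : ℕ) : ℝ) * ∑ g ∈ Y, Complex.normSq ((χ : G → ℂ) g) := by
    refine le_trans (le_of_eq ?_) h2
    ring
  exact le_of_mul_le_mul_left h4 hpe

omit [Fintype G] in
/-- All values at the `r`-singular elements of absolute value one: `r ^ n ∣ d² - 1`. -/
theorem pow_dvd_of [Finite G] (χ : IrrCharacter G) {r n : ℕ} (hr : r.Prime) (h1 : r ^ n ∣ Nat.card G)
    (h2 : ¬ r ^ (n + 1) ∣ Nat.card G) (hall : ∀ g : G, r ∣ orderOf g → Complex.normSq ((χ : G → ℂ) g) = 1) :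
    r ^ n ∣ charDegree (χ : G → ℂ) ^ 2 - 1 := by
  classical
  have : Fact r.Prime := ⟨hr⟩
  obtain ⟨P⟩ : Nonempty (Sylow r G) := inferInstance
  have hP : r ^ n ∣ Nat.card (P : Subgroup G) := P.pow_dvd_card_of_pow_dvd_card h1
  have hP' : Nat.card (P : Subgroup G) ∣ r ^ n := by
    obtain ⟨m, hm⟩ := IsPGroup.iff_card.1 P.2
    rw [hm]
    refine pow_dvd_pow r ?_
    by_contra hlt
    exact h2 ((pow_dvd_pow r (by omega : n + 1 ≤ m)).trans (hm ▸ Subgroup.card_subgroup_dvd_card _))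
  have hPc : Nat.card (P : Subgroup G) = r ^ n := Nat.dvd_antisymm hP' hP
  have := Fintype.ofFinite (P : Subgroup G)
  have hres : IsCharacter (P : Subgroup G) (fun y : (P : Subgroup G) => (χ : G → ℂ) y) :=
    Core.isCharacter_comp (P : Subgroup G).subtype (Core.isIrr_isCharacter χ.2)
  obtain ⟨m, hm⟩ := Core.classInner_isNat hres hres
  unfold classInner at hm
  have hPC : (Nat.card (P : Subgroup G) : ℂ) ≠ 0 := by exact_mod_cast Nat.card_pos.ne'
  have h3 : ∑ y : (P : Subgroup G), (χ : G → ℂ) y * (starRingEnd ℂ) ((χ : G → ℂ) y)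
      = (Nat.card (P : Subgroup G) : ℂ) * m := by
    rw [← hm]
    field_simp
  have h4 : ∀ y : (P : Subgroup G), y ≠ 1 → (χ : G → ℂ) y * (starRingEnd ℂ) ((χ : G → ℂ) y) = 1 := by
    intro y hy
    rw [Complex.mul_conj, hall, Complex.ofReal_one]
    obtain ⟨k, hk⟩ := IsPGroup.iff_orderOf.1 P.2 y
    have hk0 : k ≠ 0 := by
      rintro rfl
      rw [pow_zero, orderOf_eq_one_iff] at hk
      exact hy hk
    rw [Subgroup.orderOf_coe, hk]
    exact dvd_pow_self r hk0
  rw [← Finset.add_sum_erase _ _ (Finset.mem_univ (1 : (P : Subgroup G))),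
    Finset.sum_congr rfl fun y hy => h4 y (Finset.ne_of_mem_erase hy), Finset.sum_const,
    nsmul_eq_mul, mul_one, Finset.card_erase_of_mem (Finset.mem_univ _), Finset.card_univ,
    ← Nat.card_eq_fintype_card, hPc, OneMemClass.coe_one, ← charDegree_irr χ, Complex.conj_natCast] at h3
  have hd := charDegree_pos χ
  have hrn : 1 ≤ r ^ n := Nat.one_le_pow _ _ hr.pos
  have h5 : charDegree (χ : G → ℂ) * charDegree (χ : G → ℂ) + (r ^ n - 1) = r ^ n * m := by
    exact_mod_cast h3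
  have h6 : 1 ≤ charDegree (χ : G → ℂ) ^ 2 := Nat.one_le_pow _ _ hd
  have h7 : charDegree (χ : G → ℂ) ^ 2 - 1 + r ^ n = r ^ n * m := by
    rw [← h5, sq] at *
    omega
  exact (Nat.dvd_add_left (dvd_refl _)).1 (h7 ▸ Dvd.intro _ rfl)

/-- **The `r`-singular elements.** -/
theorem ex_sing {χ : IrrCharacter G} {x : G} (h : One χ x) {r n : ℕ} (hr : r.Prime) (h1 : r ^ n ∣ Nat.card G)
    (h2 : ¬ r ^ (n + 1) ∣ Nat.card G) (hx : ¬ r ∣ orderOf x) (hd : ¬ r ^ n ∣ charDegree (χ : G → ℂ) ^ 2 - 1) :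
    Ex χ (sing G r) (1 / (r : ℝ) ^ n) := by
  classical
  have hsing0 : ∀ g ∈ sing G r, (χ : G → ℂ) g ≠ 0 := by
    intro g hg h0
    rw [mem_sing, ← H604.OZ.orderOf_eq_of_conj (h.uniq g h0)] at hg
    exact hx hg
  refine ⟨gal_sing r, hsing0, ?_⟩
  obtain ⟨k, hk⟩ := sum_reg_sub χ hr h1 h2
  have hNpos : (0 : ℝ) < Nat.card G := by exact_mod_cast Nat.card_pos
  have hrpos : (0 : ℝ) < (r : ℝ) ^ n := by
    have := hr.pos
    positivity
  have hcomp : (reg G r)ᶜ = sing G r := by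
    ext g
    rw [Finset.mem_compl, mem_reg, mem_sing, not_not]
  have htot := H695.OneZero.sum_normSq χ
  rw [← Finset.sum_add_sum_compl (reg G r), hcomp] at htot
  have hcard : ((reg G r).card : ℝ) + (sing G r).card = Fintype.card G := by
    rw [← Nat.cast_add, ← hcomp, Finset.card_add_card_compl]
  have hlow := H695.OneZero.card_le χ (gal_sing r) hsing0
  have hE : (r : ℝ) ^ n * (∑ g ∈ sing G r, Complex.normSq ((χ : G → ℂ) g) - (sing G r).card)
      = Nat.card G * ((-k : ℤ) : ℝ) := by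
    push_cast
    rw [mul_neg, ← hk, ← mul_neg]
    congr 1
    linarith
  have hk0 : 0 < -k := by
    by_contra hcon
    have hk1 : -k ≤ 0 := by omega
    have hk2 : ((-k : ℤ) : ℝ) ≤ 0 := by exact_mod_cast hk1
    have h3 : (r : ℝ) ^ n * (∑ g ∈ sing G r, Complex.normSq ((χ : G → ℂ) g) - (sing G r).card) ≤ 0 := by
      rw [hE]
      exact mul_nonpos_of_nonneg_of_nonpos hNpos.le hk2
    have h4 : ∑ g ∈ sing G r, Complex.normSq ((χ : G → ℂ) g) ≤ (sing G r).card := by
      by_contra hlt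
      rw [not_le] at hlt
      have := mul_pos hrpos (sub_pos.2 hlt)
      linarith
    exact hd (pow_dvd_of χ hr h1 h2 fun g hg =>
      normSq_eq_one_of_sum χ (gal_sing r) hsing0 h4 (mem_sing.2 hg))
  have hk3 : (1 : ℝ) ≤ ((-k : ℤ) : ℝ) := by exact_mod_cast hk0
  have h5 : (Nat.card G : ℝ) ≤ (r : ℝ) ^ n * (∑ g ∈ sing G r, Complex.normSq ((χ : G → ℂ) g) - (sing G r).card) := by
    rw [hE]
    nlinarith
  have h6 : 1 / (r : ℝ) ^ n * Nat.card G ≤ ∑ g ∈ sing G r, Complex.normSq ((χ : G → ℂ) g) - (sing G r).card := by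
    rw [one_div, ← div_eq_inv_mul, div_le_iff₀ hrpos, mul_comm]
    exact h5
  linarith

end Cfsg.Agent.H23.OZ
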