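import Cfsg.Agent.FourTwo.ClassSep
import Cfsg.Agent.FourTwo.BN
import Cfsg.Agent.H30.OZ.Bad
import Cfsg.Agent.H672.OZ.Sieve
import Cfsg.Agent.H130.F4Graph
import Cfsg.Agent.H224.F4R.Iso

/-!
# Facts on `F₄(2)` for S4842 (helper23)

* `le_cent`    : the centralizer of a 2-element has order at least 16 (`|U : U'| ≥ 16`);
* `nine_dvd`   : the centralizer of an involution has order divisible by 9;
* `no35`       : there is no element of order 35;
* `zA`, `zB`   : elements of order 7, no power of `zB` is conjugate to `zA`;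
* `cent13`, `cent17` : the centralizers of the elements of order 13 and 17.
-/

set_option autoImplicit false
set_option maxRecDepth 100000

namespace Cfsg.Agent.H23.OZ.F42

open Cfsg Cfsg.Lie Cfsg.Agent.FourTwo.Base Cfsg.Agent.FourTwo.Classes Cfsg.Agent.FourTwo.ClassSep
open Cfsg.Agent.ChevalleyStructure.TwF4.Rel (sp refl)

attribute [local irreducible] x ec n

/-! ### Abstract -/

/-- The centralizer is not smaller than a commutative image. -/
theorem card_range_le {P A : Type*} [Group P] [Finite P] [CommGroup A] (f : P →* A) (x : P) :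
    Nat.card f.range ≤ Nat.card (Subgroup.centralizer ({x} : Set P)) := by
  have h1 : (Subgroup.centralizer ({x} : Set P)).index = Nat.card {y : P // IsConj x y} :=
    Cfsg.Agent.Characters.CentralCharacter.index_centralizer_eq_card x
  have h2 : Nat.card {y : P // IsConj x y} ≤ Nat.card f.ker := by
    refine Nat.card_le_card_of_injective (fun y => ⟨y.1 * x⁻¹, ?_⟩) ?_
    · obtain ⟨c, hc⟩ := isConj_iff.1 y.2
      rw [MonoidHom.mem_ker, ← hc, map_mul, map_mul, map_mul, map_inv, map_inv, mul_comm (f c), mul_inv_cancel_right,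
        mul_inv_cancel]
    · intro y y' h
      have h3 : y.1 * x⁻¹ = y'.1 * x⁻¹ := congrArg Subtype.val h
      exact Subtype.ext (mul_right_cancel h3)
  have h3 := (Subgroup.centralizer ({x} : Set P)).card_mul_index
  have h4 := f.ker.card_mul_index
  rw [Subgroup.index_ker] at h4
  rw [h1] at h3
  have h5 : 0 < Nat.card f.ker := Nat.card_pos
  have h6 : Nat.card f.ker * Nat.card f.range ≤ Nat.card f.ker * Nat.card (Subgroup.centralizer ({x} : Set P)) := by
    rw [h4, ← h3, mul_comm]
    exact Nat.mul_le_mul_right _ h2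
  exact Nat.le_of_mul_le_mul_left h6 h5

/-- The sign character of a subgroup of index two. -/
noncomputable def sgn {P : Type*} [Group P] (H : Subgroup P) (h : H.index = 2) : P →* ℤˣ := by
  classical
  exact
  { toFun := fun g => if g ∈ H then 1 else -1
    map_one' := if_pos H.one_mem
    map_mul' := fun a b => by
      have h1 := Subgroup.mul_mem_iff_of_index_two h (a := a) (b := b)
      by_cases ha : a ∈ H
      · by_cases hb : b ∈ H
        · rw [if_pos (h1.2 (iff_of_true ha hb)), if_pos ha, if_pos hb, one_mul]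
        · rw [if_neg (fun h2 => hb ((h1.1 h2).1 ha)), if_pos ha, if_neg hb, one_mul]
      · by_cases hb : b ∈ H
        · rw [if_neg (fun h2 => ha ((h1.1 h2).2 hb)), if_neg ha, if_pos hb, mul_one]
        · rw [if_pos (h1.2 (iff_of_false ha hb)), if_neg ha, if_neg hb, neg_mul_neg, one_mul] }

theorem sgn_pos {P : Type*} [Group P] {H : Subgroup P} (h : H.index = 2) {g : P} (hg : g ∈ H) : sgn H h g = 1 := by
  classical
  exact if_pos hg

theorem sgn_neg {P : Type*} [Group P] {H : Subgroup P} (h : H.index = 2) {g : P} (hg : g ∉ H) : sgn H h g = -1 := by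
  classical
  exact if_neg hg

/-- Two commuting elements of order three. -/
theorem nine_dvd_of {C : Type*} [Group C] [Finite C] {a b : C} (ha : orderOf a = 3) (hb : orderOf b = 3)
    (hab : Commute a b) (h1 : b ∉ Subgroup.zpowers a) : 9 ∣ Nat.card C := by
  have hinf : Subgroup.zpowers a ⊓ Subgroup.zpowers b = ⊥ := by
    have h2 : Nat.card (Subgroup.zpowers a ⊓ Subgroup.zpowers b : Subgroup C) ∣ 3 := by
      rw [← hb, ← Nat.card_zpowers b]
      exact Subgroup.card_dvd_of_le inf_le_right
    rcases (Nat.dvd_prime Nat.prime_three).1 h2 with h3 | h3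
    · exact Subgroup.card_eq_one.1 h3
    · exfalso
      have h4 : Subgroup.zpowers a ⊓ Subgroup.zpowers b = Subgroup.zpowers b :=
        Subgroup.eq_of_le_of_card_ge inf_le_right (by rw [h3, Nat.card_zpowers, hb])
      have h5 : Subgroup.zpowers b ≤ Subgroup.zpowers a := inf_eq_right.1 h4
      exact h1 (h5 (Subgroup.mem_zpowers b))
  have hcomm : ∀ (u : Subgroup.zpowers a) (v : Subgroup.zpowers b), Commute (Subgroup.subtype _ u) (Subgroup.subtype _ v) := by
    rintro ⟨u, hu⟩ ⟨v, hv⟩
    obtain ⟨i, rfl⟩ := Subgroup.mem_zpowers_iff.1 hu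
    obtain ⟨j, rfl⟩ := Subgroup.mem_zpowers_iff.1 hv
    exact (hab.zpow_left i).zpow_right j
  let f : Subgroup.zpowers a × Subgroup.zpowers b →* C :=
    MonoidHom.noncommCoprod (Subgroup.subtype _) (Subgroup.subtype _) hcomm
  have hf : Function.Injective f := by
    rw [injective_iff_map_eq_one]
    rintro ⟨⟨u, hu⟩, ⟨v, hv⟩⟩ h
    have h2 : u * v = 1 := h
    have h3 : u = v⁻¹ := eq_inv_of_mul_eq_one_left h2
    have h4 : u ∈ Subgroup.zpowers a ⊓ Subgroup.zpowers b := ⟨hu, by rw [h3]; exact (Subgroup.zpowers b).inv_mem hv⟩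
    rw [hinf, Subgroup.mem_bot] at h4
    have h5 : v = 1 := by rw [h4, one_mul] at h2; exact h2
    subst h4 h5
    rfl
  have h2 := Subgroup.card_dvd_of_injective f hf
  rw [Nat.card_prod, Nat.card_zpowers, Nat.card_zpowers, ha, hb] at h2
  exact h2

/-- The centralizer in a subgroup is not larger. -/
theorem cent_sub_le {G : Type*} [Group G] [Finite G] {H : Subgroup G} (g : H) :
    Nat.card (Subgroup.centralizer ({g} : Set H)) ≤ Nat.card (Subgroup.centralizer ({(g : G)} : Set G)) := by
  let f : Subgroup.centralizer ({g} : Set H) → Subgroup.centralizer ({(g : G)} : Set G) := fun c =>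
    ⟨((c : H) : G), by
      have h3 := Subgroup.mem_centralizer_singleton_iff.1 c.2
      rw [Subgroup.mem_centralizer_singleton_iff]
      exact congrArg Subtype.val h3⟩
  refine Nat.card_le_card_of_injective f fun a b h => ?_
  have h' : ((a : H) : G) = ((b : H) : G) := congrArg (fun z : Subgroup.centralizer ({(g : G)} : Set G) => (z : G)) h
  exact Subtype.ext (Subtype.ext h')

theorem nine_dvd_cent {G : Type*} [Group G] [Finite G] {t a b : G} (ha : orderOf a = 3) (hb : orderOf b = 3)
    (hab : a * b = b * a) (h1 : a * b ≠ 1) (h2 : a * a * b ≠ 1) (hta : t * a = a * t) (htb : t * b = b * t) :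
    9 ∣ Nat.card (Subgroup.centralizer ({t} : Set G)) := by
  have hA : a ∈ Subgroup.centralizer ({t} : Set G) := by
    rw [Subgroup.mem_centralizer_singleton_iff, hta]
  have hB : b ∈ Subgroup.centralizer ({t} : Set G) := by
    rw [Subgroup.mem_centralizer_singleton_iff, htb]
  refine nine_dvd_of (a := (⟨a, hA⟩ : Subgroup.centralizer ({t} : Set G)))
    (b := ⟨b, hB⟩) (by rw [← ha, ← Subgroup.orderOf_coe]) (by rw [← hb, ← Subgroup.orderOf_coe])
    (Subtype.ext hab) fun hm => ?_
  obtain ⟨i, hi⟩ := Subgroup.mem_zpowers_iff.1 hm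
  have hi' : a ^ i = b := congrArg Subtype.val hi
  have h3 : a ^ (3 : ℤ) = 1 := by
    have h4 := pow_orderOf_eq_one a
    rw [ha] at h4
    exact_mod_cast h4
  have h4 : a ^ i = a ^ (i % 3) := by
    conv_lhs => rw [← Int.emod_add_mul_ediv i 3, zpow_add, zpow_mul, h3, one_zpow, mul_one]
  have h5 : i % 3 = 0 ∨ i % 3 = 1 ∨ i % 3 = 2 := by omega
  rcases h5 with h5 | h5 | h5
  · rw [h4, h5, zpow_zero] at hi'
    rw [← hi', orderOf_one] at hb
    norm_num at hb
  · rw [h4, h5, zpow_one] at hi'
    apply h2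
    rw [← hi', ← pow_two, ← pow_succ]
    exact_mod_cast h3
  · rw [h4, h5] at hi'
    apply h1
    rw [← hi', ← zpow_one_add]
    exact h3

/-! ### The 2-elements -/

/-- the elements of `U` mapped into `U` by `n i` -/
def HH (i : ℕ) : Subgroup UL := (UL.comap (MulAut.conj (n i)).toMonoidHom).subgroupOf UL

theorem mem_HH {i : ℕ} {g : UL} : g ∈ HH i ↔ n i * (g : LL) * (n i)⁻¹ ∈ UL := by
  unfold HH
  rw [Subgroup.mem_subgroupOf, Subgroup.mem_comap]
  rfl

theorem card_bit (s : ℕ) (hs : s < 24) :
    2 * ((Finset.range (2 ^ 24)).filter fun a => a.testBit s = false).card = 2 ^ 24 := by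
  have h1 : ((Finset.range (2 ^ 24)).filter fun a => a.testBit s = false).card =
      ((Finset.range (2 ^ 24)).filter fun a => ¬ a.testBit s = false).card := by
    refine Finset.card_bij (fun a _ => a ^^^ 2 ^ s) (fun a ha => ?_) (fun a _ b _ h => ?_) (fun b hb => ?_)
    · rw [Finset.mem_filter, Finset.mem_range] at ha ⊢
      refine ⟨Nat.xor_lt_two_pow ha.1 (Nat.pow_lt_pow_right (by norm_num) hs), ?_⟩
      rw [Nat.testBit_xor, ha.2, Nat.testBit_two_pow_self]
      simp
    · exact Nat.xor_left_injective h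
    · rw [Finset.mem_filter, Finset.mem_range] at hb
      refine ⟨b ^^^ 2 ^ s, ?_, by rw [Nat.xor_assoc, Nat.xor_self, Nat.xor_zero]⟩
      rw [Finset.mem_filter, Finset.mem_range]
      refine ⟨Nat.xor_lt_two_pow hb.1 (Nat.pow_lt_pow_right (by norm_num) hs), ?_⟩
      rw [Bool.not_eq_false] at hb
      rw [Nat.testBit_xor, hb.2, Nat.testBit_two_pow_self]
      simp
  have h2 := Finset.card_filter_add_card_filter_not (s := Finset.range (2 ^ 24)) (fun a : ℕ => a.testBit s = false)
  rw [← h1, Finset.card_range] at h2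
  omega

theorem sp_tab : ∀ i < 4, 24 ≤ sp i ∧ sp i < 48 ∧ refl i (sp i) < 24 ∧
    ∀ j < 4, j ≠ i → 24 ≤ refl i (sp j) ∧ refl i (sp j) < 48 := by decide +kernel

theorem x_not_mem {r : ℕ} (hr : r < 24) : x r ∉ UL := fun h => by
  have := Cfsg.Agent.FourTwo.BN.pos_of_mem_U (r := r) (by omega) h
  omega

/-- the simple root elements in `U` -/
def xs (i : ℕ) (hi : i < 4) : UL := ⟨x (sp i), x_mem_UL (sp_tab i hi).1 (sp_tab i hi).2.1⟩

theorem xs_not_mem {i : ℕ} (hi : i < 4) : xs i hi ∉ HH i := by
  rw [mem_HH]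
  show n i * x (sp i) * (n i)⁻¹ ∉ UL
  rw [n_conj hi (sp_tab i hi).2.1]
  exact x_not_mem (sp_tab i hi).2.2.1

theorem xs_mem {i j : ℕ} (hi : i < 4) (hj : j < 4) (h : j ≠ i) : xs j hj ∈ HH i := by
  rw [mem_HH]
  show n i * x (sp j) * (n i)⁻¹ ∈ UL
  rw [n_conj hi (sp_tab j hj).2.1]
  exact x_mem_UL ((sp_tab i hi).2.2.2 j hj h).1 ((sp_tab i hi).2.2.2 j hj h).2

theorem index_HH {i : ℕ} (hi : i < 4) : (HH i).index = 2 := by
  have h1 : 2 ^ 23 ≤ Nat.card (HH i) := by
    have h2 := card_bit (sp i - 24) (by have := (sp_tab i hi).2.1; omega)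
    set A := (Finset.range (2 ^ 24)).filter fun a => a.testBit (sp i - 24) = false with hA
    have h3 : A.card = 2 ^ 23 := by omega
    rw [← h3, ← Fintype.card_coe, ← Nat.card_eq_fintype_card]
    have h4 : ∀ a : A, (a : ℕ) < 2 ^ 24 ∧ (a : ℕ).testBit (sp i - 24) = false := fun a => by
      obtain ⟨h5, h6⟩ := Finset.mem_filter.1 a.2
      exact ⟨Finset.mem_range.1 h5, h6⟩
    refine Nat.card_le_card_of_injective (fun a : A => (⟨⟨ec a, ec_mem_UL a⟩, ?_⟩ : HH i)) ?_
    · rw [mem_HH]
      show n i * ec a * (n i)⁻¹ ∈ UL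
      rw [← ec_reflU hi (h4 a).2]
      exact ec_mem_UL _
    · intro a b h
      have h5 : ec a = ec b := congrArg (fun g : HH i => ((g : UL) : LL)) h
      exact Subtype.ext (ec_inj (h4 a).1 (h4 b).1 h5)
  have h2 := (HH i).card_mul_index
  rw [card_UL] at h2
  have h3 : (HH i).index ≠ 1 := by
    rw [Ne, Subgroup.index_eq_one]
    intro h
    exact xs_not_mem hi (h ▸ Subgroup.mem_top _)
  have h4 : (HH i).index ≠ 0 := Subgroup.index_ne_zero_of_finite
  have h5 : (HH i).index ≤ 2 := by
    by_contra hlt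
    have h6 : 3 ≤ (HH i).index := by omega
    have h7 := Nat.mul_le_mul h1 h6
    rw [h2] at h7
    norm_num at h7
  omega

/-- the four sign characters -/
noncomputable def Phi : UL →* (Fin 4 → ℤˣ) := MonoidHom.pi fun i : Fin 4 => sgn (HH i) (index_HH i.2)

theorem Phi_xs (i j : Fin 4) : Phi (xs j j.2) i = if i = j then -1 else 1 := by
  have h : Phi (xs j j.2) i = sgn (HH i) (index_HH i.2) (xs j j.2) := rfl
  rw [h]
  split_ifs with hij
  · subst hij
    exact sgn_neg _ (xs_not_mem i.2)
  · exact sgn_pos _ (xs_mem i.2 j.2 fun h => hij (Fin.ext h.symm))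

theorem Phi_surj : Function.Surjective Phi := by
  intro e
  refine ⟨(if e 0 = 1 then 1 else xs 0 (by norm_num)) * (if e 1 = 1 then 1 else xs 1 (by norm_num))
    * (if e 2 = 1 then 1 else xs 2 (by norm_num)) * (if e 3 = 1 then 1 else xs 3 (by norm_num)), ?_⟩
  have h : ∀ (j : Fin 4) (i : Fin 4), Phi (if e j = 1 then 1 else xs j j.2) i = if i = j then e j else 1 := by
    intro j i
    rcases Int.units_eq_one_or (e j) with h | h
    · rw [if_pos h, map_one, Pi.one_apply, h, ite_self]
    · rw [if_neg (by rw [h]; decide), Phi_xs, h]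
  funext i
  rw [map_mul, map_mul, map_mul, Pi.mul_apply, Pi.mul_apply, Pi.mul_apply]
  have h0 := h 0 i
  have h1 := h 1 i
  have h2 := h 2 i
  have h3 := h 3 i
  simp only [Fin.val_zero, Fin.val_one, Fin.val_two] at h0 h1 h2
  have e3 : ((3 : Fin 4) : ℕ) = 3 := rfl
  simp only [e3] at h3
  rw [h0, h1, h2, h3]
  fin_cases i <;> simp

/-- The centralizer in `U`. -/
theorem le_cent_UL (g : UL) : 16 ≤ Nat.card (Subgroup.centralizer ({g} : Set UL)) := by
  have h1 := card_range_le Phi g
  rw [MonoidHom.range_eq_top.2 Phi_surj, Subgroup.card_top, Nat.card_eq_fintype_card] at h1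
  have h2 : Fintype.card (Fin 4 → ℤˣ) = 16 := by rw [Fintype.card_fun]; rfl
  rwa [h2] at h1

/-- **The centralizers of the 2-elements.** -/
theorem le_cent {g : LL} {k : ℕ} (hg : orderOf g = 2 ^ k) :
    16 ≤ Nat.card (Subgroup.centralizer ({g} : Set LL)) := by
  have hQ : IsPGroup 2 (Subgroup.zpowers g) := IsPGroup.of_card (n := k) (by rw [Nat.card_zpowers, hg])
  obtain ⟨y, hy⟩ := exists_conj_le hQ
  have h1 := hy g (Subgroup.mem_zpowers g)
  have h2 : Nat.card (Subgroup.centralizer ({g} : Set LL)) = Nat.card (Subgroup.centralizer ({y * g * y⁻¹} : Set LL)) :=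
    Cfsg.Agent.H672.OZ.cent_eq_of_conj (isConj_iff.2 ⟨y, rfl⟩)
  rw [h2]
  exact (le_cent_UL ⟨_, h1⟩).trans (cent_sub_le _)

/-! ### Involutions and elements of order three -/

/-- a word of length at most the bound -/
theorem ord_three {w : List ℕ} (h3 : chk (w ++ w ++ w) [] = true) (hw : (w.all fun r => decide (r < 48)) = true)
    (h1 : iv w ≠ iv []) : orderOf (wd w) = 3 := by
  refine orderOf_eq_prime ?_ fun h => ?_
  · have h2 := wd_eq _ _ h3
    rw [wd_append, wd_append, wd_nil] at h2
    rw [pow_succ, pow_two, h2]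
  · apply h1
    rw [← rk2_wd w hw, ← rk2_wd [] rfl, h, wd_nil]

theorem nine_of {t a b : List ℕ} (ha3 : chk (a ++ a ++ a) [] = true) (hb3 : chk (b ++ b ++ b) [] = true)
    (ha : (a.all fun r => decide (r < 48)) = true) (hb : (b.all fun r => decide (r < 48)) = true)
    (ha1 : iv a ≠ iv []) (hb1 : iv b ≠ iv [])
    (hab : chk (a ++ b) (b ++ a) = true) (h1 : iv (a ++ b) ≠ iv []) (h2 : iv (a ++ a ++ b) ≠ iv [])
    (hta : chk (t ++ a) (a ++ t) = true) (htb : chk (t ++ b) (b ++ t) = true) :
    9 ∣ Nat.card (Subgroup.centralizer ({wd t} : Set LL)) := by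
  have hall : ∀ {u v : List ℕ}, (u.all fun r => decide (r < 48)) = true → (v.all fun r => decide (r < 48)) = true →
      ((u ++ v).all fun r => decide (r < 48)) = true := fun hu hv => by
    rw [List.all_append, hu, hv]; rfl
  refine nine_dvd_cent (ord_three ha3 ha ha1) (ord_three hb3 hb hb1) ?_ ?_ ?_ ?_ ?_
  · rw [← wd_append, ← wd_append]
    exact wd_eq _ _ hab
  · intro h
    apply h1
    rw [← rk2_wd _ (hall ha hb), ← rk2_wd [] rfl, wd_append, wd_nil, h]
  · intro h
    apply h2
    rw [← rk2_wd _ (hall (hall ha ha) hb), ← rk2_wd [] rfl, wd_append, wd_append, wd_nil, h]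
  · rw [← wd_append, ← wd_append]
    exact wd_eq _ _ hta
  · rw [← wd_append, ← wd_append]
    exact wd_eq _ _ htb

theorem nine44 : 9 ∣ Nat.card (Subgroup.centralizer ({x 44} : Set LL)) := by
  rw [← wd_one]
  exact nine_of (t := [44]) (a := [24, 23]) (b := [27, 20]) (by decide +kernel) (by decide +kernel) (by decide)
    (by decide) (by decide +kernel) (by decide +kernel) (by decide +kernel) (by decide +kernel) (by decide +kernel)
    (by decide +kernel) (by decide +kernel)

theorem nine47 : 9 ∣ Nat.card (Subgroup.centralizer ({x 47} : Set LL)) := by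
  rw [← wd_one]
  exact nine_of (t := [47]) (a := [27, 20]) (b := [28, 19]) (by decide +kernel) (by decide +kernel) (by decide)
    (by decide) (by decide +kernel) (by decide +kernel) (by decide +kernel) (by decide +kernel) (by decide +kernel)
    (by decide +kernel) (by decide +kernel)

theorem nine4447 : 9 ∣ Nat.card (Subgroup.centralizer ({x 44 * x 47} : Set LL)) := by
  rw [← wd_one 47, ← wd_cons]
  exact nine_of (t := [44, 47]) (a := [27, 20]) (b := [28, 19]) (by decide +kernel) (by decide +kernel) (by decide)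
    (by decide) (by decide +kernel) (by decide +kernel) (by decide +kernel) (by decide +kernel) (by decide +kernel)
    (by decide +kernel) (by decide +kernel)

theorem nine4432 : 9 ∣ Nat.card (Subgroup.centralizer ({x 44 * x 32} : Set LL)) := by
  rw [← wd_one 32, ← wd_cons]
  exact nine_of (t := [44, 32]) (a := [24, 23]) (b := [27, 20]) (by decide +kernel) (by decide +kernel) (by decide)
    (by decide) (by decide +kernel) (by decide +kernel) (by decide +kernel) (by decide +kernel) (by decide +kernel)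
    (by decide +kernel) (by decide +kernel)

/-- **The centralizers of the involutions.** -/
theorem nine_dvd {t : LL} (ht : orderOf t = 2) : 9 ∣ Nat.card (Subgroup.centralizer ({t} : Set LL)) := by
  have h2 : t * t = 1 := by
    have h3 := pow_orderOf_eq_one t
    rwa [ht, pow_two] at h3
  have h1 : t ≠ 1 := by
    rintro rfl
    rw [orderOf_one] at ht
    norm_num at ht
  obtain ⟨y, hy⟩ := exists_class h2 h1
  have key : ∀ s : LL, y * t * y⁻¹ = s → Nat.card (Subgroup.centralizer ({t} : Set LL)) =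
      Nat.card (Subgroup.centralizer ({s} : Set LL)) := fun s hs =>
    Cfsg.Agent.H672.OZ.cent_eq_of_conj (isConj_iff.2 ⟨y, hs⟩)
  rcases hy with h | h | h | h
  · rw [key _ h]; exact nine44
  · rw [key _ h]; exact nine47
  · rw [key _ h]; exact nine4447
  · rw [key _ h]; exact nine4432

/-! ### Odd orders -/

/-- **There is no element of order 35.** -/
theorem no35 (g : LL) : ¬ (5 ∣ orderOf g ∧ 7 ∣ orderOf g) := by
  rintro ⟨h5, h7⟩
  have h35 : 35 ∣ orderOf g := Nat.Coprime.mul_dvd_of_dvd_of_dvd (by norm_num : Nat.Coprime 5 7) h5 h7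
  have hc : Fintype.card (ZMod 2) = 2 := ZMod.card 2
  have o5 : orderOf ((Fintype.card (ZMod 2) : ℕ) : ZMod 5) = 4 := by
    rw [hc, orderOf_eq_iff (by norm_num)]
    decide
  have o7 : orderOf ((Fintype.card (ZMod 2) : ℕ) : ZMod 7) = 3 := by
    rw [hc, orderOf_eq_iff (by norm_num)]
    decide
  have h := (Cfsg.Agent.H130.F4Graph.odd_iff (F := ZMod 2) (r := 5) (s := 7) (by norm_num) (by norm_num) (by norm_num)
    (by norm_num) (by norm_num) (by rw [hc]; norm_num) (by rw [hc]; norm_num) (by rw [o5]; decide)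
    (by rw [o7]; decide)).1 ⟨g ^ (orderOf g / 35), by
      rw [orderOf_pow_orderOf_div (orderOf_pos g).ne' h35]⟩
  rw [o5, o7] at h
  revert h
  unfold Cfsg.Agent.H130.F4Graph.Adj
  decide

/-- **The elements of order 13.** -/
theorem cent13 {y : LL} (hy : orderOf y = 13) : Nat.card (Subgroup.centralizer ({y} : Set LL)) = 13 := by
  have hc : Nat.card (ZMod 2) = 2 := by rw [Nat.card_eq_fintype_card]; exact ZMod.card 2
  have h := (Cfsg.Agent.H224.F4R.tor12 (ZMod 2)).ct 13 (by norm_num) (by
    rw [hc]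
    exact Cfsg.Agent.H946.Num.od_N12 (by norm_num) (by decide)) y hy
  rw [h, hc]
  rfl

/-- **The elements of order 17.** -/
theorem cent17 {y : LL} (hy : orderOf y = 17) : Nat.card (Subgroup.centralizer ({y} : Set LL)) = 17 := by
  have hc : Nat.card (ZMod 2) = 2 := by rw [Nat.card_eq_fintype_card]; exact ZMod.card 2
  have h := (Cfsg.Agent.H224.F4R.tor8 (ZMod 2)).ct 17 (by norm_num) (by
    rw [hc]
    exact Cfsg.Agent.H946.Num.od_N8 (by norm_num) (by decide) (by norm_num)) y hy
  rw [h, hc]
  norm_num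

/-! ### Two elements of order seven -/

/-- in the long `SL₃(2)` -/
def wA : List ℕ := [33, 14, 20, 27]

/-- in the short `SL₃(2)` -/
def wB : List ℕ := [25, 22, 23, 24]

theorem wd_flatten (w : List ℕ) (k : ℕ) : wd (List.replicate k w).flatten = wd w ^ k := by
  induction k with
  | zero => rw [List.replicate_zero, List.flatten_nil, wd_nil, pow_zero]
  | succ k ih => rw [List.replicate_succ, List.flatten_cons, wd_append, ih, pow_succ']

theorem ord_seven {w : List ℕ} (h7 : chk (List.replicate 7 w).flatten [] = true)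
    (hw : (w.all fun r => decide (r < 48)) = true) (h1 : iv w ≠ iv []) : orderOf (wd w) = 7 := by
  have : Fact (Nat.Prime 7) := ⟨by norm_num⟩
  refine orderOf_eq_prime ?_ fun h => ?_
  · rw [← wd_flatten, wd_eq _ _ h7, wd_nil]
  · apply h1
    rw [← rk2_wd w hw, ← rk2_wd [] rfl, h, wd_nil]

theorem ordA : orderOf (wd wA) = 7 := ord_seven (by decide +kernel) (by decide) (by decide +kernel)

theorem ordB : orderOf (wd wB) = 7 := ord_seven (by decide +kernel) (by decide) (by decide +kernel)

theorem sep_tab : ∀ k < 7, iv wA ≠ iv (List.replicate k wB).flatten ∧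
    ((List.replicate k wB).flatten.all fun r => decide (r < 48)) = true := by decide +kernel

/-- **`zA` is not conjugate to a power of `zB`.** -/
theorem not_conj (k : ℕ) : ¬ IsConj (wd wA) (wd wB ^ k) := by
  intro h
  obtain ⟨c, hc⟩ := isConj_iff.1 h
  have h1 : wd wB ^ k = wd wB ^ (k % 7) := by
    conv_lhs => rw [← Nat.mod_add_div k 7, pow_add, pow_mul, ← ordB, pow_orderOf_eq_one, one_pow, mul_one, ordB]
  have h2 := sep_tab (k % 7) (Nat.mod_lt _ (by norm_num))
  apply h2.1
  rw [← rk2_wd _ (by decide : (wA.all fun r => decide (r < 48)) = true), ← rk2_wd _ h2.2, wd_flatten, ← h1, ← hc,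
    rk2_conj]

end Cfsg.Agent.H23.OZ.F42
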